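import Groth.Agent.EqIntLib.StabFibre
import Groth.Agent.GITQuot.Successive
import Groth.Agent.GrpSchLib.Action
import Mathlib.AlgebraicGeometry.ZariskisMainTheorem
import Mathlib.AlgebraicGeometry.AlgClosed.Basic

/-!
Finite stabilisers: openness along the unit section, and finiteness from an isolated unit.
-/

set_option autoImplicit false
set_option linter.unusedSectionVars false
set_option linter.style.haveILetI false
set_option backward.isDefEq.respectTransparency false
set_option backward.isDefEq.respectTransparency.types false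

universe u

open CategoryTheory CategoryTheory.Limits MonoidalCategory CartesianMonoidalCategory MonObj GrpObj AlgebraicGeometry
open TopologicalSpace

namespace Groth.Agent.AffAct66

variable {k : Type u} [Field k] {G X : Over (Spec (CommRingCat.of k))} [GrpObj G] (a : AlgGrp.Action G X)

local notation "𝟏" => (𝟙_ (Over (Spec (CommRingCat.of k))))

section Isolated

variable [IsAlgClosed k] [LocallyOfFiniteType G.hom] [QuasiCompact G.hom] [LocallyOfFiniteType X.hom]

/-- The orbit map of a point. -/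
noncomputable def orbAt (x : 𝟏 ⟶ X) : G ⟶ X := lift (𝟙 G) (toUnit G ≫ x) ≫ a.act

theorem comp_orbAt (x : 𝟏 ⟶ X) {T : Over (Spec (CommRingCat.of k))} (h : T ⟶ G) :
    h ≫ orbAt a x = lift h (toUnit T ≫ x) ≫ a.act := by
  rw [orbAt, ← Category.assoc, comp_lift, Category.comp_id, ← Category.assoc, comp_toUnit]

theorem closed_pt {Z : Over (Spec (CommRingCat.of k))} [LocallyOfFiniteType Z.hom] (z : 𝟏 ⟶ Z) :
    IsClosed ({z.left.base (IsLocalRing.closedPoint k)} : Set Z.left) :=
  ((pointEquivClosedPoint Z.hom) ⟨z.left, Over.w z⟩).2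

/-- The stabiliser of a point is finite when the unit is isolated in the fibre of the orbit map. -/
theorem finite_fixing_of_isolated (x : 𝟏 ⟶ X) {V : Set G.left} (hV : IsOpen V)
    (hVe : V ∩ (orbAt a x).left.base ⁻¹' {x.left.base (IsLocalRing.closedPoint k)} =
      {(1 : 𝟏 ⟶ G).left.base (IsLocalRing.closedPoint k)}) :
    {g : 𝟏 ⟶ G | lift g x ≫ a.act = x}.Finite := by
  let o : Spec (CommRingCat.of k) := IsLocalRing.closedPoint k
  let F : Set G.left := (orbAt a x).left.base ⁻¹' {x.left.base o}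
  haveI : JacobsonSpace G.left := LocallyOfFiniteType.jacobsonSpace G.hom
  haveI : CompactSpace G.left := QuasiCompact.compactSpace_of_compactSpace G.hom
  have hFc : IsClosed F := (closed_pt x).preimage (orbAt a x).left.continuous
  have hpt : ∀ g : 𝟏 ⟶ G, lift g x ≫ a.act = x ↔ g.left.base o ∈ F := fun g => by
    have h1 : (g ≫ orbAt a x) = lift g x ≫ a.act := by
      rw [comp_orbAt, toUnit_unique (toUnit 𝟏) (𝟙 _), Category.id_comp]
    constructor
    · intro h
      show (g ≫ orbAt a x).left.base o = x.left.base o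
      rw [h1, h]
    · intro h
      rw [← h1]
      exact Over.OverMorphism.ext (ext_of_apply_closedPoint_eq X.hom (Over.w (g ≫ orbAt a x)) (Over.w x) h)
  have key : ∀ g : 𝟏 ⟶ G, lift g x ≫ a.act = x → ∃ O : Set G.left, IsOpen O ∧ O ∩ F = {g.left.base o} := by
    intro g hg
    let R : (𝟏 ⟶ G) → (G ⟶ G) := fun h => 𝟙 G * (toUnit G ≫ h)
    have hRR : ∀ h h', R h ≫ R h' = R (h * h') := fun h h' => by
      simp only [R]
      rw [MonObj.comp_mul, Category.comp_id, ← Category.assoc, comp_toUnit, _root_.mul_assoc, ← MonObj.comp_mul]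
    have hR1 : R 1 = 𝟙 G := by simp [R, MonObj.comp_one]
    have hinv : lift g⁻¹ x ≫ a.act = x := by
      conv_lhs => rw [← hg]
      rw [GrpSchLib.act_mul, inv_mul_cancel, GrpSchLib.act_one]
    have horb : ∀ h, lift h x ≫ a.act = x → R h ≫ orbAt a x = orbAt a x := fun h hh => by
      have hh' : lift (toUnit G ≫ h) (toUnit G ≫ x) ≫ a.act = toUnit G ≫ x := by
        rw [← comp_lift_assoc, hh]
      rw [comp_orbAt]
      simp only [R]
      rw [← GrpSchLib.act_mul, hh', orbAt]
    refine ⟨(R g⁻¹).left.base ⁻¹' V, hV.preimage (R g⁻¹).left.continuous, ?_⟩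
    have hg1 : ∀ z : G.left, (R g).left.base ((R g⁻¹).left.base z) = z := fun z => by
      show (R g⁻¹ ≫ R g).left.base z = z
      rw [hRR, inv_mul_cancel, hR1]
      rfl
    have he : (g ≫ R g⁻¹) = 1 := by
      simp only [R]
      rw [MonObj.comp_mul, Category.comp_id, ← Category.assoc, toUnit_unique (g ≫ toUnit G) (𝟙 _), Category.id_comp,
        mul_inv_cancel]
    have he' : (R g⁻¹).left.base (g.left.base o) = (1 : 𝟏 ⟶ G).left.base o := by
      show (g ≫ R g⁻¹).left.base o = _
      rw [he]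
    ext z
    constructor
    · rintro ⟨h1, h2⟩
      have h3 : (R g⁻¹).left.base z ∈ V ∩ F := ⟨h1, by
        show (R g⁻¹ ≫ orbAt a x).left.base z = _
        rw [horb _ hinv]
        exact h2⟩
      rw [hVe] at h3
      show z = g.left.base o
      rw [← hg1 z, h3, ← he']
      exact hg1 _
    · rintro rfl
      refine ⟨?_, (hpt g).mp hg⟩
      show (R g⁻¹).left.base (g.left.base o) ∈ V
      rw [he']
      exact ((Set.ext_iff.mp hVe _).mpr rfl).1
  choose O hO hOF using key
  let U := ⋃ g : {g : 𝟏 ⟶ G // lift g x ≫ a.act = x}, O g.1 g.2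
  have hFU : F ⊆ U := by
    intro z hz
    by_contra hzU
    obtain ⟨q, ⟨hqF, hqU⟩, hqc⟩ := nonempty_inter_closedPoints (Z := F \ U) ⟨z, hz, hzU⟩
      (hFc.sdiff (isOpen_iUnion fun g : {g : 𝟏 ⟶ G // lift g x ≫ a.act = x} => hO g.1 g.2)).isLocallyClosed
    let g : 𝟏 ⟶ G := Over.homMk _ ((pointEquivClosedPoint G.hom).symm ⟨q, hqc⟩).2
    have hgq : g.left.base o = q := congrArg Subtype.val ((pointEquivClosedPoint G.hom).apply_symm_apply ⟨q, hqc⟩)
    have hgx : lift g x ≫ a.act = x := (hpt g).mpr (hgq ▸ hqF)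
    refine hqU (Set.mem_iUnion.mpr ⟨⟨g, hgx⟩, ?_⟩)
    have := ((Set.ext_iff.mp (hOF g hgx) (g.left.base o)).mpr rfl).1
    rwa [hgq] at this
  have hfin : F.Finite := by
    obtain ⟨t, ht⟩ := hFc.isCompact.elim_finite_subcover (fun g : {g : 𝟏 ⟶ G // lift g x ≫ a.act = x} => O g.1 g.2)
      (fun g => hO g.1 g.2) hFU
    refine (t.finite_toSet.image fun g => g.1.left.base o).subset fun z hz => ?_
    obtain ⟨g, hgt, hzg⟩ := Set.mem_iUnion₂.mp (ht hz)
    exact ⟨g, hgt, ((Set.ext_iff.mp (hOF g.1 g.2) z).mp ⟨hzg, hz⟩).symm⟩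
  refine Set.Finite.of_finite_image (f := fun g => g.left.base o) (hfin.subset ?_) fun g _ g' _ h => ?_
  · rintro _ ⟨g, hg, rfl⟩
    exact (hpt g).mp hg
  · exact Over.OverMorphism.ext (ext_of_apply_closedPoint_eq G.hom (Over.w g) (Over.w g') h)

end Isolated

section Open

open EqIntLib

/-- The unit section of the stabiliser. -/
noncomputable def unitSec : X.left ⟶ pullback (GIT.psi a (𝟙 X)).left (lift (𝟙 X) (𝟙 X)).left :=
  ((stabPointsEquiv a (𝟙 X)).symm ⟨1, Subgroup.one_mem _⟩).1

theorem unitSec_stabHom : unitSec a ≫ stabHom a = 𝟙 X.left := ((stabPointsEquiv a (𝟙 X)).symm ⟨1, Subgroup.one_mem _⟩).2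

theorem unitSec_fst_fst : unitSec a ≫ pullback.fst _ _ ≫ (fst G X).left = (1 : X ⟶ G).left := by
  have h := congrArg Subtype.val ((stabPointsEquiv a (𝟙 X)).apply_symm_apply ⟨1, Subgroup.one_mem _⟩)
  exact (Category.assoc _ _ _).symm.trans (congrArg (fun g => g.left) h)

variable [IsAlgClosed k] [LocallyOfFiniteType G.hom] [QuasiCompact G.hom] [IsAffineHom G.hom]
  [LocallyOfFiniteType X.hom]

theorem locallyOfFiniteType_stabHom : LocallyOfFiniteType (stabHom a) := by
  haveI : LocallyOfFiniteType (snd G X).left :=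
    (MorphismProperty.pullback_snd G.hom X.hom (inferInstanceAs (LocallyOfFiniteType G.hom)) :
      LocallyOfFiniteType (pullback.snd G.hom X.hom))
  haveI : LocallyOfFiniteType ((GIT.psi a (𝟙 X)).left ≫ (snd X X).left) := by
    rw [← Over.comp_left, GIT.psi, lift_snd]
    infer_instance
  haveI : LocallyOfFiniteType (GIT.psi a (𝟙 X)).left := locallyOfFiniteType_of_comp _ (snd X X).left
  exact MorphismProperty.pullback_snd _ _ inferInstance

/-- A geometric point with finite stabiliser has the unit isolated in the fibre of the stabiliser. -/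
theorem quasiFiniteAt_unitSec {Ω : Type u} [Field Ω] [IsAlgClosed Ω] {T : Over (Spec (CommRingCat.of k))}
    (j : T.left ≅ Spec (CommRingCat.of Ω)) (f : T ⟶ X) (hf : IsFinite (GLinSh.stabTo a f)) (t : T.left) :
    (stabHom a).QuasiFiniteAt ((unitSec a).base (f.left.base t)) := by
  haveI := locallyOfFiniteType_stabHom a
  let P := pullback (stabHom a) f.left
  let p : P ⟶ T.left := pullback.snd _ _
  haveI : Subsingleton T.left := ⟨fun s s' => j.hom.isOpenEmbedding.injective (Subsingleton.elim (α := Spec (CommRingCat.of Ω)) _ _)⟩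
  haveI : LocallyOfFiniteType p := MorphismProperty.pullback_snd _ _ inferInstance
  haveI : JacobsonSpace P := LocallyOfFiniteType.jacobsonSpace (p ≫ j.hom)
  haveI hfin := (GITQuot.Successive.isFinite_stabTo_iff a j f).mp hf
  let E : {s : Spec (CommRingCat.of Ω) ⟶ P // s ≫ p ≫ j.hom = 𝟙 _} →
      {g : T ⟶ G // lift g f ≫ a.act = f} := fun s =>
    let w : {w : T.left ⟶ pullback (GIT.psi a (𝟙 X)).left (lift (𝟙 X) (𝟙 X)).left // w ≫ stabHom a = f.left} :=
      ⟨j.hom ≫ s.1 ≫ pullback.fst _ _, by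
        rw [Category.assoc, Category.assoc, pullback.condition]
        have h2 : j.hom ≫ s.1 ≫ p = 𝟙 T.left := by
          rw [← cancel_mono j.hom, Category.assoc, Category.assoc, s.2, Category.comp_id, Category.id_comp]
        rw [← Category.assoc s.1, ← Category.assoc j.hom, h2, Category.id_comp]⟩
    ⟨(stabPointsEquiv a f w).1, (mem_fixSubgroup a f _).mp (stabPointsEquiv a f w).2⟩
  have hEinj : Function.Injective E := by
    intro s s' h
    have h1 : stabPointsEquiv a f _ = stabPointsEquiv a f _ := Subtype.ext (congrArg Subtype.val h :)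
    have h2 := congrArg Subtype.val ((stabPointsEquiv a f).injective h1)
    refine Subtype.ext (pullback.hom_ext ((cancel_epi j.hom).mp h2) ?_)
    rw [← cancel_mono j.hom, Category.assoc, Category.assoc]
    exact s.2.trans s'.2.symm
  haveI : Finite {s : Spec (CommRingCat.of Ω) ⟶ P // s ≫ p ≫ j.hom = 𝟙 _} := Finite.of_injective E hEinj
  have hcp : (closedPoints P).Finite := by
    rw [← Set.finite_coe_iff]
    exact Finite.of_equiv _ (pointEquivClosedPoint (p ≫ j.hom))
  have hclosed : IsClosed (closedPoints P) := by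
    rw [← Set.biUnion_of_singleton (closedPoints P)]
    exact hcp.isClosed_biUnion fun z hz => hz
  have huniv : (Set.univ : Set P).Finite := by
    rw [← closure_closedPoints (X := P), hclosed.closure_eq]
    exact hcp
  let x₀ := f.left.base t
  let z₀ := (unitSec a).base x₀
  have hz₀ : (stabHom a).base z₀ = x₀ := by
    show (unitSec a ≫ stabHom a).base x₀ = x₀
    rw [unitSec_stabHom]
    rfl
  have hS : ((stabHom a).base ⁻¹' {x₀}).Finite := by
    refine (huniv.image (pullback.fst (stabHom a) f.left).base).subset fun z hz => ?_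
    obtain ⟨q, hq, -⟩ := Scheme.Pullback.exists_preimage_pullback (f := stabHom a) (g := f.left) z t hz
    exact ⟨q, trivial, hq⟩
  haveI : Finite ((stabHom a).fiber ((stabHom a).base z₀) : Scheme.{u}) := by
    rw [hz₀]
    haveI := hS.to_subtype
    exact Finite.of_equiv _ ((stabHom a).fiberHomeo x₀).toEquiv.symm
  haveI : JacobsonSpace ((stabHom a).fiber ((stabHom a).base z₀) : Scheme.{u}) :=
    haveI : LocallyOfFiniteType ((stabHom a).fiberToSpecResidueField ((stabHom a).base z₀)) :=
      MorphismProperty.pullback_snd _ _ inferInstance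
    LocallyOfFiniteType.jacobsonSpace ((stabHom a).fiberToSpecResidueField ((stabHom a).base z₀))
  exact Scheme.Hom.quasiFiniteAt_iff_isOpen_singleton_asFiber.mpr (isOpen_discrete _)

/-- Near a point with finite geometric stabiliser there is a rational point with finite stabiliser in every
neighbourhood in its closure. -/
theorem exists_finite_fixing {Ω : Type u} [Field Ω] [IsAlgClosed Ω] {T : Over (Spec (CommRingCat.of k))}
    (j : T.left ≅ Spec (CommRingCat.of Ω)) (f : T ⟶ X) (hf : IsFinite (GLinSh.stabTo a f)) (t : T.left)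
    (C : Set X.left) (hC : IsClosed C) (hxC : f.left.base t ∈ C) :
    ∃ y : 𝟏 ⟶ X, y.left.base (IsLocalRing.closedPoint k) ∈ C ∧
      {g : 𝟏 ⟶ G | lift g y ≫ a.act = y}.Finite := by
  haveI := locallyOfFiniteType_stabHom a
  let o : Spec (CommRingCat.of k) := IsLocalRing.closedPoint k
  let Q : Set X.left := (unitSec a).base ⁻¹' {z | (stabHom a).QuasiFiniteAt z}
  have hQ : IsOpen Q := (stabHom a).isOpen_quasiFiniteAt.preimage (unitSec a).continuous
  haveI : JacobsonSpace X.left := LocallyOfFiniteType.jacobsonSpace X.hom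
  obtain ⟨q, ⟨hqC, hqQ⟩, hqc⟩ := nonempty_inter_closedPoints (Z := C ∩ Q)
    ⟨f.left.base t, hxC, quasiFiniteAt_unitSec a j f hf t⟩ (hC.isLocallyClosed.inter hQ.isLocallyClosed)
  let y : 𝟏 ⟶ X := Over.homMk _ ((pointEquivClosedPoint X.hom).symm ⟨q, hqc⟩).2
  have hy : y.left.base o = q := congrArg Subtype.val ((pointEquivClosedPoint X.hom).apply_symm_apply ⟨q, hqc⟩)
  refine ⟨y, hy ▸ hqC, ?_⟩
  let R := pullback (orbAt a y).left y.left
  haveI : Subsingleton ((𝟏).left : Scheme.{u}) := inferInstanceAs (Subsingleton (PrimeSpectrum k))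
  haveI : IsClosedImmersion y.left := isClosedImmersion_of_comp_eq_id _ _ (Over.w y)
  let i : R ⟶ G.left := pullback.fst _ _
  let RO : Over (Spec (CommRingCat.of k)) := Over.mk (i ≫ G.hom)
  let σ : RO ⟶ G := Over.homMk i rfl
  have hp : pullback.snd (orbAt a y).left y.left = i ≫ G.hom := by
    have h1 := congrArg (· ≫ X.hom) (pullback.condition (f := (orbAt a y).left) (g := y.left))
    simp only [Category.assoc] at h1
    rw [Over.w (orbAt a y), Over.w y] at h1
    exact ((Category.comp_id _).symm.trans h1.symm)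
  have hσ : σ ∈ fixSubgroup a (toUnit RO ≫ y) := by
    show lift σ (toUnit RO ≫ y) ≫ a.act = toUnit RO ≫ y
    rw [← comp_orbAt]
    refine Over.OverMorphism.ext ?_
    show i ≫ (orbAt a y).left = (toUnit RO).left ≫ y.left
    rw [show (toUnit RO).left = i ≫ G.hom from (Category.comp_id _).symm.trans (Over.w (toUnit RO)), ← hp]
    exact pullback.condition
  let lam := ((stabPointsEquiv a (toUnit RO ≫ y)).symm ⟨σ, hσ⟩)
  have hlam1 : lam.1 ≫ pullback.fst _ _ ≫ (fst G X).left = i := by
    have h := congrArg Subtype.val ((stabPointsEquiv a (toUnit RO ≫ y)).apply_symm_apply ⟨σ, hσ⟩)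
    exact (Category.assoc _ _ _).symm.trans (congrArg (fun g => g.left) h)
  let z₀ := (unitSec a).base q
  have hz₀ : (stabHom a).base z₀ = q := by
    show (unitSec a ≫ stabHom a).base q = q
    rw [unitSec_stabHom]
    rfl
  have hfib : ∀ r : R, (stabHom a).base (lam.1.base r) = q := fun r => by
    show (lam.1 ≫ stabHom a).base r = q
    rw [lam.2, ← hy]
    exact congrArg y.left.base (Subsingleton.elim (α := Spec (CommRingCat.of k)) _ _)
  have hopen : IsOpen {(stabHom a).asFiber z₀} :=
    Scheme.Hom.quasiFiniteAt_iff_isOpen_singleton_asFiber.mp hqQ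
  obtain ⟨O, hO, hOe⟩ := isOpen_induced_iff.mp
    (((stabHom a).fiberHomeo ((stabHom a).base z₀)).isOpenMap _ hopen)
  have hOe' : O ∩ (stabHom a).base ⁻¹' {q} = {z₀} := by
    refine Set.ext fun z => ⟨fun ⟨h1, h2⟩ => ?_, ?_⟩
    · have h3 : (⟨z, h2.trans hz₀.symm⟩ : (stabHom a).base ⁻¹' {(stabHom a).base z₀}) ∈ Subtype.val ⁻¹' O := h1
      rw [hOe] at h3
      obtain ⟨s, hs, hs'⟩ := h3
      rw [Set.mem_singleton_iff.mp hs, Scheme.Hom.asFiber, Homeomorph.apply_symm_apply] at hs'
      exact (congrArg Subtype.val hs').symm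
    · rintro rfl
      refine ⟨?_, hz₀⟩
      have h3 : (⟨z₀, rfl⟩ : (stabHom a).base ⁻¹' {(stabHom a).base z₀}) ∈ Subtype.val ⁻¹' O := by
        rw [hOe]
        exact ⟨_, rfl, Homeomorph.apply_symm_apply _ _⟩
      exact h3
  haveI : IsClosedImmersion i := MorphismProperty.pullback_fst _ _ inferInstance
  obtain ⟨V, hV, hVO⟩ := i.isClosedEmbedding.isInducing.isOpen_iff.mp (hO.preimage lam.1.continuous)
  refine finite_fixing_of_isolated a y hV (Set.ext fun g => ?_)
  have hrange : (orbAt a y).left.base ⁻¹' {y.left.base o} = Set.range i.base := by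
    rw [show Set.range i.base = (orbAt a y).left.base ⁻¹' Set.range y.left.base from Scheme.Pullback.range_fst _ _]
    congr 1
    exact (Set.ext fun w => ⟨fun h => ⟨o, h.symm⟩, fun ⟨s, hs⟩ =>
      hs.symm.trans (congrArg y.left.base (Subsingleton.elim (α := Spec (CommRingCat.of k)) _ _))⟩)
  have hone : ((fst G X).left.base ((pullback.fst _ _ : pullback (GIT.psi a (𝟙 X)).left (lift (𝟙 X) (𝟙 X)).left ⟶ _).base z₀)) =
      (1 : 𝟏 ⟶ G).left.base o := by
    show (unitSec a ≫ pullback.fst _ _ ≫ (fst G X).left).base q = _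
    rw [unitSec_fst_fst, ← hy]
    show (y ≫ (1 : X ⟶ G)).left.base o = _
    rw [MonObj.comp_one]
  rw [hrange]
  constructor
  · rintro ⟨hgV, r, rfl⟩
    have h1 : lam.1.base r ∈ O ∩ (stabHom a).base ⁻¹' {q} := ⟨(Set.ext_iff.mp hVO r).mp hgV, hfib r⟩
    rw [hOe'] at h1
    show i.base r = _
    rw [← hone, ← h1]
    exact (congrArg (fun m => m.base r) hlam1).symm
  · rintro rfl
    have h1 : (1 : 𝟏 ⟶ G).left.base o ∈ Set.range i.base := by
      rw [← hrange]
      show ((1 : 𝟏 ⟶ G) ≫ orbAt a y).left.base o = _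
      rw [comp_orbAt, toUnit_unique (toUnit 𝟏) (𝟙 _), Category.id_comp, GrpSchLib.act_one]
    obtain ⟨r, hr⟩ := h1
    refine ⟨?_, r, hr⟩
    rw [← hr]
    refine (Set.ext_iff.mp hVO r).mpr ?_
    show lam.1.base r ∈ O
    let e1 : 𝟏 ⟶ RO := Over.homMk (pullback.lift (1 : 𝟏 ⟶ G).left (𝟙 _) (by
      rw [Category.id_comp, ← Over.comp_left, comp_orbAt, toUnit_unique (toUnit 𝟏) (𝟙 _), Category.id_comp,
        GrpSchLib.act_one])) (by
      show pullback.lift _ _ _ ≫ i ≫ G.hom = 𝟙 _
      rw [← hp, pullback.lift_snd]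
      rfl)
    have he1 : i.base (e1.left.base o) = i.base r := by
      rw [hr]
      show (e1.left ≫ i).base o = _
      rw [show e1.left ≫ i = (1 : 𝟏 ⟶ G).left from pullback.lift_fst _ _ _]
    rw [← i.isClosedEmbedding.injective he1]
    have h2 : e1.left ≫ lam.1 = y.left ≫ unitSec a := by
      have hs1 : (e1.left ≫ lam.1) ≫ stabHom a = y.left := by
        rw [Category.assoc, lam.2, ← Over.comp_left, ← Category.assoc, toUnit_unique (e1 ≫ toUnit RO) (𝟙 _),
          Category.id_comp]
      have hs2 : (y.left ≫ unitSec a) ≫ stabHom a = y.left := by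
        rw [Category.assoc, unitSec_stabHom, Category.comp_id]
      refine congrArg Subtype.val ((stabPointsEquiv a y).injective (a₁ := ⟨_, hs1⟩) (a₂ := ⟨_, hs2⟩) (Subtype.ext
        (Over.OverMorphism.ext ?_)))
      show ((e1.left ≫ lam.1) ≫ pullback.fst _ _) ≫ (fst G X).left =
        ((y.left ≫ unitSec a) ≫ pullback.fst _ _) ≫ (fst G X).left
      simp only [Category.assoc]
      rw [hlam1, unitSec_fst_fst, show e1.left ≫ i = (1 : 𝟏 ⟶ G).left from pullback.lift_fst _ _ _, ← Over.comp_left,
        MonObj.comp_one]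
    show (e1.left ≫ lam.1).base o ∈ O
    rw [h2]
    show (unitSec a).base (y.left.base o) ∈ O
    rw [hy]
    exact (Set.ext_iff.mp hOe' z₀).mpr rfl |>.1

end Open

end Groth.Agent.AffAct66
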