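import Groth.Agent.AffAct66.Finite
import Groth.Agent.AffAct66.Isolated
import Groth.Agent.Fibre38.GeomSplit
import Groth.Agent.HMAmple.Criterion
import Groth.Prelude.Def_ActBC
import Mathlib.AlgebraicGeometry.Morphisms.FlatDescent

/-!
Properness of closed actions with finite stabilisers on affine schemes, over any field of characteristic zero, by
passing to a geometric fibre.
-/

set_option autoImplicit false
set_option linter.unusedSectionVars false
set_option linter.style.haveILetI false
set_option backward.isDefEq.respectTransparency false
set_option backward.isDefEq.respectTransparency.types false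

universe u

open CategoryTheory CategoryTheory.Limits MonoidalCategory CartesianMonoidalCategory MonObj GrpObj AlgebraicGeometry
open TopologicalSpace
open Groth.Agent.GrpSchLib.AffineHopf (sp)

namespace Groth.Agent.AffAct66

open EqIntLib

theorem isPullback_map_left {S U : Scheme.{u}} (g : U ⟶ S) {X X' : Over S} (h : X ⟶ X') :
    IsPullback ((Over.pullback g).map h).left (pullback.fst X.hom g) (pullback.fst X'.hom g) h.left := by
  have h1 : ((Over.pullback g).map h).left ≫ pullback.fst X'.hom g = pullback.fst X.hom g ≫ h.left :=
    pullback.lift_fst _ _ _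
  have h2 : ((Over.pullback g).map h).left ≫ pullback.snd X'.hom g = pullback.snd X.hom g := Over.w _
  refine (IsPullback.of_bot ?_ h1.symm (IsPullback.of_hasPullback X'.hom g)).flip
  rw [h2, Over.w h]
  exact IsPullback.of_hasPullback X.hom g

variable {k : Type u} [Field k]

/-- The base change of the orbit map is the orbit map of the base change. -/
theorem psi_bc {K : Type u} [Field K] (σ : Spec (CommRingCat.of K) ⟶ Spec (CommRingCat.of k))
    {G X : Over (Spec (CommRingCat.of k))} [GrpObj G] (a : AlgGrp.Action G X) :
    GIT.psi (a.bc σ) (𝟙 (Red.bc σ X)) ≫ Functor.LaxMonoidal.μ (Over.pullback σ) X X =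
      Functor.LaxMonoidal.μ (Over.pullback σ) G X ≫ (Over.pullback σ).map (GIT.psi a (𝟙 X)) := by
  rw [GIT.psi, GIT.psi, MonoidalCategory.whiskerLeft_id, Category.id_comp, MonoidalCategory.whiskerLeft_id,
    Category.id_comp, AlgGrp.Action.bc_act, ← Functor.Monoidal.lift_μ]
  simp only [comp_lift_assoc, Functor.Monoidal.μ_snd]

variable [CharZero k] {G X : Over (Spec (CommRingCat.of k))} [GrpObj G] (a : AlgGrp.Action G X)

/-- A closed action of a reductive group on an affine scheme with finite stabilisers is proper. -/
theorem isProper_psi_of_isClosedAction [IsAffine X.left] [LocallyOfFiniteType X.hom] (hG : Red.IsReductive G)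
    (hcl : GIT.IsClosedAction a) [LocallyQuasiFinite (stabHom a)] : IsProper (GIT.psi a (𝟙 X)).left := by
  let s₀ : Spec (CommRingCat.of k) := IsLocalRing.closedPoint k
  let K : Type u := AlgebraicClosure ((Spec (CommRingCat.of k)).residueField s₀)
  let σ : Spec (CommRingCat.of K) ⟶ Spec (CommRingCat.of k) := Red.geomPt s₀
  haveI : CharZero K := by
    obtain ⟨f, -⟩ := Spec.map_surjective σ
    exact charZero_of_injective_ringHom f.hom.injective
  haveI : Flat σ := by
    obtain ⟨f, hf⟩ := Spec.map_surjective σ
    rw [← hf, HasRingHomProperty.Spec_iff (P := @Flat)]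
    algebraize [f.hom]
    haveI : Module.Free k K := Module.Free.of_divisionRing k K
    exact Module.Flat.of_free
  haveI : Surjective σ := ⟨fun z => ⟨IsLocalRing.closedPoint K, Subsingleton.elim _ _⟩⟩
  have hG' : Red.IsReductive (Red.bc σ G) := Fibre38.isReductive_geomFibre hG s₀
  haveI := hG.1
  haveI := hG.2.1
  haveI := hG'.1
  haveI := hG'.2.1
  let G' := Red.bc σ G
  let X' := Red.bc σ X
  let a' : AlgGrp.Action G' X' := a.bc σ
  haveI : IsAffineHom X'.hom := inferInstanceAs (IsAffineHom (pullback.snd X.hom σ))
  haveI : IsAffine X'.left := isAffine_of_isAffineHom X'.hom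
  haveI : LocallyOfFiniteType X'.hom := inferInstanceAs (LocallyOfFiniteType (pullback.snd X.hom σ))
  haveI : IsAffine G'.left := isAffine_of_isAffineHom G'.hom
  haveI : IsReduced G'.left := GrpSchLib.isReduced_of_smooth_field G'.hom
  obtain ⟨A, _, _, hft, hred, hlr, ⟨e⟩⟩ := HMAmple.exists_model hG'
  haveI := hft
  haveI := hred
  have key : ∀ x : 𝟙_ (Over (Spec (CommRingCat.of K))) ⟶ X',
      IsClosed (Set.range (orbit a' x).left.base) ∧
        {g : 𝟙_ (Over (Spec (CommRingCat.of K))) ⟶ G' | lift g x ≫ a'.act = x}.Finite := by
    intro x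
    let o := 𝟙_ (Over (Spec (CommRingCat.of K)))
    let T : Over (Spec (CommRingCat.of k)) := (Over.map σ).obj o
    let he := fun (T' : Over (Spec (CommRingCat.of K))) (Z : Over (Spec (CommRingCat.of k))) =>
      (Over.mapPullbackAdj σ).homEquiv T' Z
    let q : T ⟶ X := (he o X).symm x
    have hq : he o X q = x := Equiv.apply_symm_apply _ _
    refine ⟨?_, ?_⟩
    · let g₁ : (Over.map σ).obj G' ⟶ G := (he G' G).symm (𝟙 G')
      let θ : (Over.map σ).obj G' ⟶ G ⊗ T := lift g₁ ((Over.map σ).map (toUnit G'))
      have horb : orbit a' x = he G' X (θ ≫ GIT.psi a q ≫ fst X T) := by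
        have h1 : he G' X ((Over.map σ).map (toUnit G') ≫ q) = toUnit G' ≫ x := by
          rw [Adjunction.homEquiv_naturality_left]
          exact congrArg _ hq
        have h2 := AlgGrp.Action.lift_homEquiv_bc_act σ a g₁ ((Over.map σ).map (toUnit G') ≫ q)
        simp only [g₁, he] at h1 h2
        rw [Equiv.apply_symm_apply, h1] at h2
        show lift (𝟙 G') (toUnit G' ≫ x) ≫ a'.act = _
        rw [h2]
        congr 1
        simp only [θ, GIT.psi, lift_fst, ← Category.assoc, lift_whiskerLeft]
        rfl
      have hfst : (orbit a' x).left ≫ pullback.fst X.hom σ = (θ ≫ GIT.psi a q ≫ fst X T).left := by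
        rw [horb]
        show (he G' X _).left ≫ _ = _
        simp only [he, Adjunction.homEquiv_unit]
        rw [Over.comp_left, Category.assoc]
        erw [pullback.lift_fst]
        simp [Over.mapPullbackAdj]
        exact Category.id_comp _
      let emb : X'.left ⟶ (X ⊗ T).left :=
        (pullback.congrHom rfl (show T.hom = σ from Category.id_comp σ)).inv
      have hι₁ : emb ≫ pullback.fst X.hom T.hom = pullback.fst X.hom σ := by simp [emb]
      have hι₂ : emb ≫ pullback.snd X.hom T.hom = pullback.snd X.hom σ := by simp [emb]
      have hsq : (orbit a' x).left ≫ emb = θ.left ≫ (GIT.psi a q).left := by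
        apply pullback.hom_ext
        · rw [Category.assoc, hι₁, hfst]
          rfl
        · rw [Category.assoc, hι₂, Category.assoc]
          show (orbit a' x).left ≫ X'.hom = θ.left ≫ (GIT.psi a q).left ≫ (snd X T).left
          rw [Over.w, ← Over.comp_left, ← Over.comp_left, GIT.psi, lift_snd]
          simp only [θ, lift_snd]
          exact (Over.w (toUnit G')).symm
      haveI : IsIso θ.left := by
        have : θ.left = (pullback.congrHom rfl (show T.hom = σ from Category.id_comp σ)).inv := by
          apply pullback.hom_ext
          · rw [pullback.congrHom_inv, pullback.lift_fst, Category.comp_id]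
            show θ.left ≫ (fst G T).left = _
            rw [← Over.comp_left, lift_fst]
            simp [g₁, he, Over.mapPullbackAdj]
          · rw [pullback.congrHom_inv, pullback.lift_snd, Category.comp_id]
            show θ.left ≫ (snd G T).left = _
            rw [← Over.comp_left, lift_snd]
            exact ((Category.comp_id _).symm.trans (Over.w (toUnit G')) :)
        rw [this]
        infer_instance
      have hr : Set.range (orbit a' x).left.base = emb.base ⁻¹' Set.range (GIT.psi a q).left.base := by
        refine Set.ext fun z => ⟨fun ⟨g, hg⟩ => ⟨θ.left.base g, ?_⟩, fun ⟨g, hg⟩ => ⟨(CategoryTheory.inv θ.left).base g, ?_⟩⟩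
        · rw [← hg, ← Scheme.Hom.comp_apply, ← Scheme.Hom.comp_apply, hsq]
          rfl
        · refine emb.isOpenEmbedding.injective ?_
          rw [← hg]
          show (CategoryTheory.inv θ.left ≫ (orbit a' x).left ≫ emb).base g = _
          rw [hsq, IsIso.inv_hom_id_assoc]
      rw [hr]
      exact (hcl K T (Iso.refl _) q).preimage emb.continuous
    · haveI : QuasiCompact (stabHom a) := by
        haveI : IsAffineHom (snd G X).left := (MorphismProperty.pullback_snd G.hom X.hom
          (inferInstanceAs (IsAffineHom G.hom)) : IsAffineHom (pullback.snd G.hom X.hom))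
        haveI : IsAffine (G ⊗ X).left := isAffine_of_isAffineHom (snd G X).left
        haveI : IsAffineHom (snd X X).left := (MorphismProperty.pullback_snd X.hom X.hom
          (inferInstanceAs (IsAffineHom X.hom)) : IsAffineHom (pullback.snd X.hom X.hom))
        haveI : IsAffine (X ⊗ X).left := isAffine_of_isAffineHom (snd X X).left
        exact MorphismProperty.pullback_snd _ _ inferInstance
      let P := pullback (stabHom a) q.left
      let p : P ⟶ T.left := pullback.snd _ _
      haveI : LocallyQuasiFinite p := MorphismProperty.pullback_snd _ _ inferInstance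
      haveI : QuasiCompact p := MorphismProperty.pullback_snd _ _ inferInstance
      have hfin : Finite P := by
        rw [← Set.finite_univ_iff]
        refine (p.finite_preimage_singleton (IsLocalRing.closedPoint K : Spec (CommRingCat.of K))).subset fun z _ => ?_
        exact Subsingleton.elim (α := Spec (CommRingCat.of K)) _ _
      haveI : LocallyOfFiniteType (stabHom a) := by
        haveI : LocallyOfFiniteType (snd G X).left := (MorphismProperty.pullback_snd G.hom X.hom
          (inferInstanceAs (LocallyOfFiniteType G.hom)) : LocallyOfFiniteType (pullback.snd G.hom X.hom))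
        haveI : LocallyOfFiniteType ((GIT.psi a (𝟙 X)).left ≫ (snd X X).left) := by
          rw [← Over.comp_left, GIT.psi, lift_snd]
          infer_instance
        haveI : LocallyOfFiniteType (GIT.psi a (𝟙 X)).left := locallyOfFiniteType_of_comp _ (snd X X).left
        exact MorphismProperty.pullback_snd _ _ inferInstance
      haveI : LocallyOfFiniteType p := MorphismProperty.pullback_snd _ _ inferInstance
      haveI : Finite {w : T.left ⟶ P // w ≫ p = 𝟙 _} :=
        Finite.of_injective (fun w => w.1.base (IsLocalRing.closedPoint K : Spec (CommRingCat.of K))) fun w w' h =>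
          Subtype.ext (ext_of_apply_closedPoint_eq p w.2 w'.2 h)
      haveI : Finite {w : T.left ⟶ pullback (GIT.psi a (𝟙 X)).left (lift (𝟙 X) (𝟙 X)).left // w ≫ stabHom a = q.left} :=
        Finite.of_injective
          (fun w => (⟨pullback.lift w.1 (𝟙 _) (by rw [w.2, Category.id_comp]), pullback.lift_snd _ _ _⟩ :
            {w : T.left ⟶ P // w ≫ p = 𝟙 _}))
          fun w w' h => Subtype.ext (by simpa using congrArg (fun v => v.1 ≫ pullback.fst _ _) h)
      haveI : Finite (fixSubgroup a q) := Finite.of_equiv _ (stabPointsEquiv a q)
      refine Set.finite_coe_iff.mp (Finite.of_injective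
        (fun g => (⟨(he o G).symm g.1, (mem_fixSubgroup a q _).mpr ((he o X).injective (by
          have h2 := AlgGrp.Action.lift_homEquiv_bc_act σ a ((he o G).symm g.1) q
          simp only [he] at h2 hq ⊢
          rw [Equiv.apply_symm_apply, hq] at h2
          rw [← h2, hq]
          exact g.2))⟩ : fixSubgroup a q))
        fun g g' h => Subtype.ext ((he o G).symm.injective (congrArg Subtype.val h :)))
  have hfinite : IsFinite (GIT.psi a' (𝟙 X')).left :=
    isFinite_psi a' e hlr (fun x => (key x).1) (fun x => (key x).2) (𝟙 X')
  have hmap : IsFinite ((Over.pullback σ).map (GIT.psi a (𝟙 X))).left := by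
    have h1 := congrArg (fun t => t.left) (psi_bc σ a)
    simp only [Over.comp_left] at h1
    haveI := hfinite
    haveI : IsIso (Functor.LaxMonoidal.μ (Over.pullback σ) G X).left :=
      inferInstanceAs (IsIso ((Over.forget _).map (Functor.LaxMonoidal.μ (Over.pullback σ) G X)))
    haveI : IsIso (Functor.LaxMonoidal.μ (Over.pullback σ) X X).left :=
      inferInstanceAs (IsIso ((Over.forget _).map (Functor.LaxMonoidal.μ (Over.pullback σ) X X)))
    rw [← MorphismProperty.cancel_left_of_respectsIso @IsFinite
      (Functor.LaxMonoidal.μ (Over.pullback σ) G X).left, ← h1,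
      MorphismProperty.cancel_right_of_respectsIso @IsFinite]
    exact hfinite
  haveI := hmap
  haveI hc : UniversallyClosed (GIT.psi a (𝟙 X)).left :=
    MorphismProperty.of_isPullback_of_descendsAlong (P := @UniversallyClosed)
      (Q := @Surjective ⊓ @Flat ⊓ @QuasiCompact) (isPullback_map_left σ (GIT.psi a (𝟙 X)))
      ⟨⟨MorphismProperty.pullback_fst _ _ inferInstance, MorphismProperty.pullback_fst _ _ inferInstance⟩,
        MorphismProperty.pullback_fst _ _ inferInstance⟩ inferInstance
  haveI : IsSeparated X.hom := inferInstance
  haveI : IsAffineHom (snd G X).left := (MorphismProperty.pullback_snd G.hom X.hom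
    (inferInstanceAs (IsAffineHom G.hom)) : IsAffineHom (pullback.snd G.hom X.hom))
  haveI : LocallyOfFiniteType (snd G X).left := (MorphismProperty.pullback_snd G.hom X.hom
    (inferInstanceAs (LocallyOfFiniteType G.hom)) : LocallyOfFiniteType (pullback.snd G.hom X.hom))
  haveI : IsAffineHom ((GIT.psi a (𝟙 X)).left ≫ (snd X X).left) := by
    rw [← Over.comp_left, GIT.psi, lift_snd]
    infer_instance
  haveI : LocallyOfFiniteType ((GIT.psi a (𝟙 X)).left ≫ (snd X X).left) := by
    rw [← Over.comp_left, GIT.psi, lift_snd]
    infer_instance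
  haveI : LocallyOfFiniteType (GIT.psi a (𝟙 X)).left := locallyOfFiniteType_of_comp _ (snd X X).left
  haveI : IsSeparated ((GIT.psi a (𝟙 X)).left ≫ (snd X X).left) := inferInstance
  haveI : IsSeparated (GIT.psi a (𝟙 X)).left := IsSeparated.of_comp _ (snd X X).left
  exact { }

end Groth.Agent.AffAct66
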