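import Groth.Agent.AffAct66.Embed
import Groth.Agent.AffAct66.Isolated

/-!
On an affine scheme with closed orbits, invariant functions separate a point with finite geometric stabiliser from the
rational points with infinite stabilisers.
-/

set_option autoImplicit false
set_option linter.unusedSectionVars false
set_option linter.style.haveILetI false
set_option backward.isDefEq.respectTransparency false
set_option backward.isDefEq.respectTransparency.types false

universe u

open CategoryTheory CategoryTheory.Limits MonoidalCategory CartesianMonoidalCategory MonObj GrpObj AlgebraicGeometry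
open Opposite TopologicalSpace WithConv
open Groth.Agent.GrpSchLib.Kunneth (Fn ev pullFn)
open Groth.Agent.GrpSchLib.AffineHopf (sp spMap)

namespace Groth.Agent.AffAct66

open HMAmple

variable {k : Type u} [Field k] [IsAlgClosed k] {G X : Over (Spec (CommRingCat.of k))} [GrpObj G]

/-- A rational point lies in the locus of a function exactly when its value there is non-zero. -/
theorem mem_basicOpen_iff_xval (z : 𝟙_ (Over (Spec (CommRingCat.of k))) ⟶ X) (s : Fn X) :
    z.left.base (IsLocalRing.closedPoint k) ∈ X.left.basicOpen s ↔ xval z s ≠ 0 := by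
  have h1 : z.left.base (IsLocalRing.closedPoint k) = (HMSec.cst z k).left.base (IsLocalRing.closedPoint k) := by
    haveI : Subsingleton ((𝟙_ (Over (Spec (CommRingCat.of k)))).left : Scheme.{u}) :=
      inferInstanceAs (Subsingleton (PrimeSpectrum k))
    rw [HMSec.cst, Over.comp_left, Scheme.Hom.comp_apply]
    exact congrArg _ (Subsingleton.elim _ _)
  rw [h1, ← isUnit_iff_ne_zero]
  constructor
  · intro hm
    have h2 : ⊤ ≤ (HMSec.cst z k).left ⁻¹ᵁ X.left.basicOpen s := HMSec.top_le_of_closedPoint _ hm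
    rw [xval, ← HMSec.lval_top (HMSec.cst z k) le_top s,
      ← HMSec.lval_res (HMSec.cst z k) (X.left.basicOpen_le s) h2]
    exact (RingedSpace.isUnit_res_basicOpen X.left.toLocallyRingedSpace.toRingedSpace s).map
      (HMSec.lval (HMSec.cst z k) _ h2)
  · intro hu
    have h1 : IsUnit (ev (HMSec.cst z k) s) := by
      have := hu.map (Scheme.ΓSpecIso (CommRingCat.of k)).inv.hom
      rwa [xval, GrpSchLib.Kunneth.pullFn_apply,
        show (Scheme.ΓSpecIso (CommRingCat.of k)).inv.hom ((Scheme.ΓSpecIso (CommRingCat.of k)).hom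
          (ev (HMSec.cst z k) s)) = ev (HMSec.cst z k) s
          from Iso.hom_inv_id_apply (Scheme.ΓSpecIso (CommRingCat.of k)) _] at this
    have h2 : ((HMSec.cst z k).left ⁻¹ᵁ X.left.basicOpen s) = ⊤ := by
      rw [Scheme.preimage_basicOpen]
      exact Scheme.basicOpen_of_isUnit _ h1
    exact h2.ge trivial

variable [CharZero k] (a : AlgGrp.Action G X) [IsAffine X.left] [LocallyOfFiniteType X.hom] [IsAffineHom G.hom]
  [QuasiCompact G.hom] [IsSeparated G.hom]
  [IsReduced G.left] [LocallyOfFiniteType G.hom] {A : Type u} [CommRing A] [HopfAlgebra k A]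
  [Algebra.FiniteType k A] [_root_.IsReduced A] (e : Grp.mk (sp k A) ≅ Grp.mk G)

/-- A stable vector comes from a point with finitely many rational fixing points. -/
theorem Gens.finite_fixing {a : AlgGrp.Action G X} (D : Gens a) (x : 𝟙_ (Over (Spec (CommRingCat.of k))) ⟶ X)
    (h : @GLin.IsStableVec k _ A _ _ (Fin D.n) (linComod (repMatrix e D.M) (D.isComodMatrix e))
      (isCoactAlg_linComod _ _) (D.vec x)) :
    {g : 𝟙_ (Over (Spec (CommRingCat.of k))) ⟶ G | lift g x ≫ a.act = x}.Finite := by
  letI := linComod (repMatrix e D.M) (D.isComodMatrix e)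
  haveI := isCoactAlg_linComod (repMatrix e D.M) (D.isComodMatrix e)
  refine ((((ComodLib.isStablePt_iff _).mp h).2).image fun φ => ptHom e φ⁻¹).subset fun g hg => ?_
  obtain ⟨φ, rfl⟩ := ptHom_surjective e g
  refine ⟨φ⁻¹, MvPolynomial.algHom_ext fun b => ?_, congrArg (ptHom e) (_root_.inv_inv φ)⟩
  show φ⁻¹.ofConv (GLin.orbitHom k A (GLin.vecPt k _ (D.vec x)) (MvPolynomial.X b)) = _
  rw [orbitHom_X, map_sum, GLin.vecPt, MvPolynomial.aeval_X]
  refine Eq.trans ?_ (congrArg (fun y => D.vec y b) (show lift (ptHom e φ) x ≫ a.act = x from hg))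
  rw [← _root_.inv_inv φ, ← D.orbitCoord e φ⁻¹ x b, _root_.inv_inv]
  exact Finset.sum_congr rfl fun c _ => by rw [map_smul, smul_eq_mul]

include e in
/-- Near a point with finite geometric stabiliser an invariant function cuts out rational points with finite
stabilisers. -/
theorem exists_cut (hA : HopfRep.IsLinearlyReductive k A)
    (hcl : ∀ x : 𝟙_ (Over (Spec (CommRingCat.of k))) ⟶ X, IsClosed (Set.range (orbit a x).left.base))
    {Ω : Type u} [Field Ω] [IsAlgClosed Ω] {T : Over (Spec (CommRingCat.of k))} (j : T.left ≅ Spec (CommRingCat.of Ω))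
    (f : T ⟶ X) (hf : IsFinite (GLinSh.stabTo a f)) (t : T.left) :
    ∃ h : Fn X, GLinSh.IsInvFn a h ∧ f.left.base t ∈ X.left.basicOpen h ∧
      ∀ y : 𝟙_ (Over (Spec (CommRingCat.of k))) ⟶ X, y.left.base (IsLocalRing.closedPoint k) ∈ X.left.basicOpen h →
        {g : 𝟙_ (Over (Spec (CommRingCat.of k))) ⟶ G | lift g y ≫ a.act = y}.Finite := by
  haveI : IsAffineHom X.hom := inferInstance
  haveI : QuasiCompact X.hom := inferInstance
  haveI : IsSeparated X.hom := inferInstance
  obtain ⟨D⟩ := exists_gens a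
  letI := linComod (repMatrix e D.M) (D.isComodMatrix e)
  haveI := isCoactAlg_linComod (repMatrix e D.M) (D.isComodMatrix e)
  obtain ⟨α, hα, h1⟩ := ComodLib.exists_integral_of_isLinearlyReductive hA
  obtain ⟨S, hS, hSx⟩ := ComodLib.exists_fixed_cutting (A := A) (R := MvPolynomial (Fin D.n) k) hα h1
  have hval : ∀ (y : 𝟙_ (Over (Spec (CommRingCat.of k))) ⟶ X) (F : MvPolynomial (Fin D.n) k),
      GLin.vecPt k _ (D.vec y) F = xval y (MvPolynomial.aeval D.f F) := fun y F => by
    rw [GLin.vecPt, MvPolynomial.aeval_eq_eval]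
    exact D.aeval_vec y F
  by_cases hne : ∃ F ∈ S, f.left.base t ∈ X.left.basicOpen (MvPolynomial.aeval D.f F)
  · obtain ⟨F, hF, hmem⟩ := hne
    refine ⟨_, isInvFn_aeval e a D.f D.M D.stable (D.isComodMatrix e) (hS hF), hmem, fun y hy => ?_⟩
    refine D.finite_fixing e y ((ComodLib.isStablePt_iff _).mpr ((hSx _).mpr ⟨F, hF, ?_⟩))
    rw [hval]
    exact (mem_basicOpen_iff_xval y _).mp hy
  · exfalso
    push Not at hne
    obtain ⟨y, hyC, hyfin⟩ := exists_finite_fixing a j f hf t
      (⋂ F ∈ S, (X.left.basicOpen (MvPolynomial.aeval D.f F) : Set X.left)ᶜ)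
      (isClosed_biInter fun F _ => (X.left.basicOpen _).isOpen.isClosed_compl) (Set.mem_iInter₂.mpr hne)
    obtain ⟨F, hF, hFy⟩ := (hSx _).mp ((ComodLib.isStablePt_iff _).mp (D.isStableVec e y (hcl y) hyfin))
    rw [hval] at hFy
    exact Set.mem_iInter₂.mp hyC F hF ((mem_basicOpen_iff_xval y _).mpr hFy)

end Groth.Agent.AffAct66
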