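import Groth.Agent.HMAmple.Rep
import Groth.Agent.HMAmple.Stable
import Mathlib.AlgebraicGeometry.AlgClosed.Basic
import Mathlib.AlgebraicGeometry.Morphisms.FiniteType

/-!
An affine scheme with an action inside a linear action, and the stability of the vectors of its points.
-/

set_option autoImplicit false
set_option linter.unusedSectionVars false
set_option linter.style.haveILetI false
set_option backward.isDefEq.respectTransparency false
set_option backward.isDefEq.respectTransparency.types false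

universe u

open CategoryTheory CategoryTheory.Limits MonoidalCategory CartesianMonoidalCategory MonObj GrpObj AlgebraicGeometry
open Opposite TopologicalSpace WithConv
open Groth.Agent.GrpSchLib.Kunneth (Fn ev pullFn)
open Groth.Agent.GrpSchLib.AffineHopf (sp spMap)
open scoped Groth.Agent.HMGit

namespace Groth.Agent.AffAct66

open HMAmple

variable {k : Type u} [Field k]

section Pts

variable {Z : Over (Spec (CommRingCat.of k))}

/-- The coordinate map of a rational point. -/
noncomputable def xval (x : 𝟙_ (Over (Spec (CommRingCat.of k))) ⟶ Z) : Fn Z →ₐ[k] k := pullFn (HMSec.cst x k)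

theorem xval_injective [IsAffine Z.left] {x y : 𝟙_ (Over (Spec (CommRingCat.of k))) ⟶ Z}
    (h : ∀ s, xval x s = xval y s) : x = y := by
  have h1 : HMSec.cst x k = HMSec.cst y k := Over.OverMorphism.ext (ext_of_isAffine (by
    ext s
    have := congrArg (Scheme.ΓSpecIso (CommRingCat.of k)).inv.hom (h s)
    rw [xval, xval, GrpSchLib.Kunneth.pullFn_apply, GrpSchLib.Kunneth.pullFn_apply] at this
    rwa [show ∀ t, (Scheme.ΓSpecIso (CommRingCat.of k)).inv.hom ((Scheme.ΓSpecIso (CommRingCat.of k)).hom t) = t from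
      fun t => Iso.hom_inv_id_apply (Scheme.ΓSpecIso (CommRingCat.of k)) t, show ∀ t,
      (Scheme.ΓSpecIso (CommRingCat.of k)).inv.hom ((Scheme.ΓSpecIso (CommRingCat.of k)).hom t) = t from
      fun t => Iso.hom_inv_id_apply (Scheme.ΓSpecIso (CommRingCat.of k)) t] at this))
  have h2 := congrArg (fun z => HMAmple.unitPtInv ≫ z) h1
  simp only [HMSec.cst, ← Category.assoc] at h2
  rwa [toUnit_unique (HMAmple.unitPtInv ≫ toUnit _) (𝟙 _), Category.id_comp, Category.id_comp] at h2

theorem exists_xval_eq [IsAffine Z.left] (χ : Fn Z →ₐ[k] k) :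
    ∃ x : 𝟙_ (Over (Spec (CommRingCat.of k))) ⟶ Z, ∀ s, xval x s = χ s := by
  let τ : Z ⟶ VecGrp.pt k (Fn Z) := HMSec.toSpec Z (AlgHom.id k (Fn Z))
  haveI : IsIso τ.left := by
    show IsIso (Z.left.toSpecΓ ≫ Spec.map (CommRingCat.ofHom (AlgHom.id k (Fn Z)).toRingHom))
    rw [show CommRingCat.ofHom (AlgHom.id k (Fn Z)).toRingHom = 𝟙 _ from rfl, Spec.map_id]
    infer_instance
  haveI : IsIso ((Over.forget (Spec (CommRingCat.of k))).map τ) := inferInstanceAs (IsIso τ.left)
  haveI : IsIso τ := isIso_of_reflects_iso τ (Over.forget _)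
  refine ⟨HMAmple.unitPtInv ≫ VecGrp.ptMap χ ≫ inv τ, fun s => ?_⟩
  rw [xval, HMAmple.cst_unitPtInv]
  conv_lhs => rw [show s = ev τ ((Scheme.ΓSpecIso (CommRingCat.of (Fn Z))).inv s) from (HMSec.ev_toSpec (AlgHom.id k (Fn Z)) s).symm]
  rw [GrpSchLib.Kunneth.pullFn_ptMap, GrpSchLib.Kunneth.pullFn_apply, GrpSchLib.Kunneth.ev_ev, IsIso.inv_hom_id,
    GrpSchLib.Kunneth.ev_id]
  exact congrArg χ (Iso.inv_hom_id_apply (Scheme.ΓSpecIso (CommRingCat.of (Fn Z))) s)

end Pts

variable {G X : Over (Spec (CommRingCat.of k))} [GrpObj G] (a : AlgGrp.Action G X)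

/-- The orbit map of a rational point. -/
noncomputable def orbit (x : 𝟙_ (Over (Spec (CommRingCat.of k))) ⟶ X) : G ⟶ X := lift (𝟙 G) (toUnit G ≫ x) ≫ a.act

theorem comp_orbit (x : 𝟙_ (Over (Spec (CommRingCat.of k))) ⟶ X) (h : 𝟙_ (Over (Spec (CommRingCat.of k))) ⟶ G) :
    h ≫ orbit a x = lift h x ≫ a.act := by
  rw [orbit, ← Category.assoc, comp_lift, Category.comp_id, ← Category.assoc, toUnit_unique (h ≫ toUnit G) (𝟙 _),
    Category.id_comp]

variable [IsAlgClosed k] [IsAffine X.left] [LocallyOfFiniteType X.hom] [QuasiCompact G.hom] [IsSeparated G.hom]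
  [IsReduced G.left] [LocallyOfFiniteType G.hom] {A : Type u} [CommRing A] [HopfAlgebra k A]
  [Algebra.FiniteType k A] [_root_.IsReduced A] (e : Grp.mk (sp k A) ≅ Grp.mk G)

/-- A stable independent family of generators spanning the constants. -/
structure Gens where
  n : ℕ
  f : Fin n → Fn X
  M : Fin n → Fin n → Fn G
  indep : LinearIndependent k f
  stable : ∀ g i, trA a g (f i) = ∑ j, val g (M i j) • f j
  one_mem : (1 : Fn X) ∈ Submodule.span k (Set.range f)
  gen : Function.Surjective (MvPolynomial.aeval (R := k) f)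

theorem exists_gens : Nonempty (Gens a) := by
  classical
  haveI : IsAffineHom X.hom := inferInstance
  haveI : QuasiCompact X.hom := inferInstance
  haveI : IsSeparated X.hom := inferInstance
  haveI : Algebra.FiniteType k (Fn X) := by
    have hX : LocallyOfFiniteType X.hom := inferInstance
    have h := (HasRingHomProperty.iff_of_isAffine (P := @LocallyOfFiniteType)).mp hX
    exact h.comp (RingHom.FiniteType.of_surjective _
      (Scheme.ΓSpecIso (CommRingCat.of k)).commRingCatIsoToRingEquiv.symm.surjective)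
  obtain ⟨S, hS⟩ := (inferInstance : Algebra.FiniteType k (Fn X)).out
  obtain ⟨n, f, M, hind, hspan, -, hst⟩ := exists_stable a (insert 1 S) (fun _ => True) trivial
    (fun _ _ _ _ => trivial) (fun _ _ _ => trivial) fun _ _ _ => trivial
  refine ⟨⟨n, f, M, hind, hst, hspan 1 (Finset.mem_insert_self _ _), AlgHom.range_eq_top _ |>.mp ?_⟩⟩
  refine top_le_iff.mp (hS ▸ Algebra.adjoin_le fun s hs => ?_)
  have h1 : Submodule.span k (Set.range f) ≤ Subalgebra.toSubmodule (MvPolynomial.aeval (R := k) f).range :=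
    Submodule.span_le.mpr (by rintro _ ⟨i, rfl⟩; exact ⟨MvPolynomial.X i, MvPolynomial.aeval_X _ i⟩)
  exact h1 (hspan s (Finset.mem_insert_of_mem hs))

variable {a} (D : Gens a)

theorem Gens.isComodMatrix : ComodLib.IsComodMatrix k (repMatrix e D.M) :=
  haveI : IsAffineHom X.hom := inferInstance
  haveI : QuasiCompact X.hom := inferInstance
  haveI : IsSeparated X.hom := inferInstance
  isComodMatrix_repMatrix e a D.f D.M D.indep D.stable

/-- The vector of values at a rational point. -/
noncomputable def Gens.vec (x : 𝟙_ (Over (Spec (CommRingCat.of k))) ⟶ X) : Fin D.n → k := fun i => xval x (D.f i)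

theorem Gens.aeval_vec (x : 𝟙_ (Over (Spec (CommRingCat.of k))) ⟶ X) (P : MvPolynomial (Fin D.n) k) :
    MvPolynomial.eval (D.vec x) P = xval x (MvPolynomial.aeval D.f P) := by
  rw [← MvPolynomial.aeval_eq_eval]
  exact (AlgHom.congr_fun (MvPolynomial.comp_aeval D.f (xval x)) P).symm

theorem Gens.vec_ne_zero (x : 𝟙_ (Over (Spec (CommRingCat.of k))) ⟶ X) : D.vec x ≠ 0 := by
  intro h
  have h1 : Submodule.span k (Set.range D.f) ≤ LinearMap.ker (xval x).toLinearMap :=
    Submodule.span_le.mpr (by rintro _ ⟨i, rfl⟩; exact congrFun h i)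
  have h2 : xval x 1 = 0 := h1 D.one_mem
  rw [map_one] at h2
  exact one_ne_zero h2

theorem Gens.orbitCoord (φ : WithConv (A →ₐ[k] k)) (x : 𝟙_ (Over (Spec (CommRingCat.of k))) ⟶ X) (b : Fin D.n) :
    ∑ c, D.vec x c * φ.ofConv (repMatrix e D.M c b) = D.vec (lift (ptHom e φ⁻¹) x ≫ a.act) b := by
  haveI : IsAffineHom X.hom := inferInstance
  haveI : QuasiCompact X.hom := inferInstance
  haveI : IsSeparated X.hom := inferInstance
  have h := pullFn_translate e a D.f D.M D.stable φ (HMSec.cst x k) b
  refine Eq.trans (Finset.sum_congr rfl fun c _ => mul_comm _ _) (h.symm.trans ?_)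
  show _ = pullFn (HMSec.cst (lift (ptHom e φ⁻¹) x ≫ a.act) k) (D.f b)
  rw [HMSec.cst, HMSec.cst, HMSec.cst, ← comp_lift_assoc]

/-- Points with closed orbit and finite stabiliser give stable vectors. -/
theorem Gens.isStableVec (x : 𝟙_ (Over (Spec (CommRingCat.of k))) ⟶ X)
    (hcl : IsClosed (Set.range (orbit a x).left.base))
    (hfin : {g : 𝟙_ (Over (Spec (CommRingCat.of k))) ⟶ G | lift g x ≫ a.act = x}.Finite) :
    @GLin.IsStableVec k _ A _ _ (Fin D.n) (linComod (repMatrix e D.M) (D.isComodMatrix e))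
      (isCoactAlg_linComod _ _) (D.vec x) := by
  letI := linComod (repMatrix e D.M) (D.isComodMatrix e)
  haveI := isCoactAlg_linComod (repMatrix e D.M) (D.isComodMatrix e)
  have hact : ∀ (φ : A →ₐ[k] k) (b : Fin D.n), GLin.actPt k φ (GLin.vecPt k _ (D.vec x)) (MvPolynomial.X b) =
      D.vec (lift (ptHom e (toConv φ)⁻¹) x ≫ a.act) b := fun φ b => by
    show φ (GLin.orbitHom k A (GLin.vecPt k _ (D.vec x)) (MvPolynomial.X b)) = _
    rw [orbitHom_X, map_sum, ← D.orbitCoord e (toConv φ) x b]
    exact Finset.sum_congr rfl fun c _ => by rw [map_smul, smul_eq_mul, ofConv_toConv]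
  refine (ComodLib.isStablePt_iff _).mpr ⟨fun w hw => ?_, ?_⟩
  · have hrel : ∀ P : MvPolynomial (Fin D.n) k, MvPolynomial.aeval D.f P = 0 → w P = 0 := by
      intro P hP
      refine hw ?_
      show GLin.orbitHom k A _ P = 0
      by_contra hne
      obtain ⟨φ, hφ⟩ := ComodLib.exists_point_ne_zero (k := k) (a := GLin.orbitHom k A (GLin.vecPt k _ (D.vec x)) P)
        (fun hn => hne hn.eq_zero)
      refine hφ ?_
      have h1 : GLin.actPt k φ (GLin.vecPt k _ (D.vec x)) =
          GLin.vecPt k _ (D.vec (lift (ptHom e (toConv φ)⁻¹) x ≫ a.act)) :=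
        MvPolynomial.algHom_ext fun b => by rw [hact, GLin.vecPt, MvPolynomial.aeval_X]
      show GLin.actPt k φ (GLin.vecPt k _ (D.vec x)) P = 0
      rw [h1, GLin.vecPt, MvPolynomial.aeval_eq_eval]
      exact (D.aeval_vec _ P).trans (by rw [hP, map_zero])
    let χ : Fn X →ₐ[k] k :=
      (Ideal.Quotient.liftₐ (RingHom.ker (MvPolynomial.aeval (R := k) D.f)) w hrel).comp
        (Ideal.quotientKerAlgEquivOfSurjective D.gen).symm.toAlgHom
    have hχ : ∀ P, χ (MvPolynomial.aeval D.f P) = w P := fun P => by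
      show Ideal.Quotient.liftₐ _ w hrel ((Ideal.quotientKerAlgEquivOfSurjective D.gen).symm (MvPolynomial.aeval D.f P)) = _
      rw [show (Ideal.quotientKerAlgEquivOfSurjective D.gen).symm (MvPolynomial.aeval D.f P) =
        Ideal.Quotient.mk _ P from (AlgEquiv.symm_apply_eq _).mpr rfl]
      rfl
    obtain ⟨y, hy⟩ := exists_xval_eq χ
    let o : Spec (CommRingCat.of k) := IsLocalRing.closedPoint k
    have hyr : y.left.base o ∈ Set.range (orbit a x).left.base := by
      by_contra hn
      obtain ⟨s, hs, hyU⟩ : ∃ s : Fn X, (X.left.basicOpen s : Set X.left) ⊆ (Set.range (orbit a x).left.base)ᶜ ∧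
          y.left.base o ∈ X.left.basicOpen s := by
        obtain ⟨_, ⟨_, ⟨s, rfl⟩, rfl⟩, h1, h2⟩ :=
          (isBasis_basicOpen X.left).exists_subset_of_mem_open hn hcl.isOpen_compl
        exact ⟨s, h2, h1⟩
      have hunit : ∀ z : 𝟙_ (Over (Spec (CommRingCat.of k))) ⟶ X,
          z.left.base o ∈ X.left.basicOpen s ↔ xval z s ≠ 0 := fun z => by
        have h1 : z.left.base o = (HMSec.cst z k).left.base (IsLocalRing.closedPoint k) := by
          haveI : Subsingleton ((𝟙_ (Over (Spec (CommRingCat.of k)))).left : Scheme.{u}) :=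
            inferInstanceAs (Subsingleton (PrimeSpectrum k))
          rw [HMSec.cst, Over.comp_left, Scheme.Hom.comp_apply]
          exact congrArg _ (Subsingleton.elim _ _)
        rw [h1, ← isUnit_iff_ne_zero]
        constructor
        · intro hm
          have h2 : ⊤ ≤ (HMSec.cst z k).left ⁻¹ᵁ X.left.basicOpen s := HMSec.top_le_of_closedPoint _ hm
          rw [xval, ← HMSec.lval_top (HMSec.cst z k) le_top s, ← HMSec.lval_res (HMSec.cst z k) (X.left.basicOpen_le s) h2]
          exact (RingedSpace.isUnit_res_basicOpen X.left.toLocallyRingedSpace.toRingedSpace s).map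
            (HMSec.lval (HMSec.cst z k) _ h2)
        · intro hu
          have h1 : IsUnit (ev (HMSec.cst z k) s) := by
            have := hu.map (Scheme.ΓSpecIso (CommRingCat.of k)).inv.hom
            rwa [xval, GrpSchLib.Kunneth.pullFn_apply,
              show (Scheme.ΓSpecIso (CommRingCat.of k)).inv.hom ((Scheme.ΓSpecIso (CommRingCat.of k)).hom
                (ev (HMSec.cst z k) s)) = ev (HMSec.cst z k) s
                from Iso.hom_inv_id_apply (Scheme.ΓSpecIso (CommRingCat.of k)) _] at this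
          have h2 : ((HMSec.cst z k).left ⁻¹ᵁ X.left.basicOpen s) = ⊤ := by
            rw [Scheme.preimage_basicOpen]
            exact Scheme.basicOpen_of_isUnit _ h1
          exact h2.ge trivial
      obtain ⟨P, rfl⟩ := D.gen s
      have hzero : ∀ g, xval (lift g x ≫ a.act) (MvPolynomial.aeval D.f P) = 0 := fun g => by
        by_contra h0
        refine hs ((hunit _).mpr h0) ⟨g.left.base o, ?_⟩
        rw [← comp_orbit a x g]
        rfl
      refine (hunit y).mp hyU ?_
      rw [hy, hχ]
      refine hw ?_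
      show GLin.orbitHom k A _ P = 0
      by_contra hne
      obtain ⟨φ, hφ⟩ := ComodLib.exists_point_ne_zero (k := k) (a := GLin.orbitHom k A (GLin.vecPt k _ (D.vec x)) P)
        (fun hn' => hne hn'.eq_zero)
      refine hφ ?_
      have h1 : GLin.actPt k φ (GLin.vecPt k _ (D.vec x)) =
          GLin.vecPt k _ (D.vec (lift (ptHom e (toConv φ)⁻¹) x ≫ a.act)) :=
        MvPolynomial.algHom_ext fun b => by rw [hact, GLin.vecPt, MvPolynomial.aeval_X]
      show GLin.actPt k φ (GLin.vecPt k _ (D.vec x)) P = 0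
      rw [h1, GLin.vecPt, MvPolynomial.aeval_eq_eval]
      exact (D.aeval_vec _ P).trans (hzero _)
    haveI : JacobsonSpace G.left := LocallyOfFiniteType.jacobsonSpace G.hom
    have hyc : IsClosed ({y.left.base o} : Set X.left) :=
      ((pointEquivClosedPoint X.hom) ⟨y.left, Over.w y⟩).2
    obtain ⟨q, hq, hqc⟩ := nonempty_inter_closedPoints (Z := (orbit a x).left.base ⁻¹' {y.left.base o}) hyr
      (hyc.preimage (orbit a x).left.continuous).isLocallyClosed
    let g : 𝟙_ (Over (Spec (CommRingCat.of k))) ⟶ G :=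
      Over.homMk _ ((pointEquivClosedPoint G.hom).symm ⟨q, hqc⟩).2
    have hgq : g.left.base o = q := congrArg Subtype.val ((pointEquivClosedPoint G.hom).apply_symm_apply ⟨q, hqc⟩)
    have hg : lift g x ≫ a.act = y := by
      rw [← comp_orbit a x g]
      refine Over.OverMorphism.ext (ext_of_apply_closedPoint_eq X.hom (Over.w (g ≫ orbit a x)) (Over.w y) ?_)
      rw [Over.comp_left, Scheme.Hom.comp_apply]
      exact (congrArg (orbit a x).left.base hgq).trans hq
    obtain ⟨φ, hφ'⟩ := ptHom_surjective e g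
    rw [← hφ'] at hg
    refine ⟨φ⁻¹.ofConv, MvPolynomial.algHom_ext fun b => ?_⟩
    rw [hact, toConv_ofConv, _root_.inv_inv, hg, ← hχ, MvPolynomial.aeval_X]
    exact (hy _).symm
  · have hinj : Function.Injective fun φ : WithConv (A →ₐ[k] k) => ptHom e φ⁻¹ := fun φ φ' h => by
      refine inv_injective (ofConv_injective (AlgHom.ext fun α => ?_))
      obtain ⟨β, rfl⟩ : ∃ β : Fn G, pullFn (univA e) β = α := by
        have h' : univA e ≫ e.inv.hom.hom = 𝟙 _ := congrArg (fun k => k.hom.hom) e.hom_inv_id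
        refine ⟨ev e.inv.hom.hom ((Scheme.ΓSpecIso (CommRingCat.of A)).inv α), ?_⟩
        rw [GrpSchLib.Kunneth.pullFn_apply, GrpSchLib.Kunneth.ev_ev, h']
        exact Iso.inv_hom_id_apply (Scheme.ΓSpecIso (CommRingCat.of A)) α
      rw [← val_ptHom, ← val_ptHom]
      exact congrArg (fun g => val g β) h
    refine Set.Finite.of_finite_image (f := fun φ => ptHom e φ⁻¹) (hfin.subset ?_) hinj.injOn
    rintro _ ⟨φ, hφ, rfl⟩
    refine xval_injective fun s => ?_
    obtain ⟨P, rfl⟩ := D.gen s
    rw [← D.aeval_vec, ← D.aeval_vec]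
    have h1 : D.vec (lift (ptHom e φ⁻¹) x ≫ a.act) = D.vec x := funext fun b => by
      have h2 := hact φ.ofConv b
      rw [toConv_ofConv] at h2
      rw [← h2, show GLin.actPt k φ.ofConv _ = _ from hφ, GLin.vecPt, MvPolynomial.aeval_X]
    rw [h1]

end Groth.Agent.AffAct66
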