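import Groth.Agent.HMAmple.Weight
import Groth.Agent.HMAmple.Ratio
import Mathlib.AlgebraicGeometry.Morphisms.QuasiSeparated
import Mathlib.AlgebraicGeometry.Noetherian
import Mathlib.AlgebraicGeometry.AlgClosed.Basic

/-!
Invariant functions on the affine locus of an invariant section, times a power of the section, extend to invariant
sections.
-/

set_option autoImplicit false
set_option linter.unusedSectionVars false
set_option linter.style.haveILetI false
set_option backward.isDefEq.respectTransparency false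
set_option backward.isDefEq.respectTransparency.types false

universe u

open CategoryTheory CategoryTheory.Limits MonoidalCategory CartesianMonoidalCategory MonObj GrpObj AlgebraicGeometry
open Opposite TopologicalSpace
open Groth.Agent.GrpSchLib.Kunneth (Fn ev pullFn)

namespace Groth.Agent.AffAct66

open HMAmple HMSec

variable {k : Type u} [Field k] {G X : Over (Spec (CommRingCat.of k))} [GrpObj G] {a : AlgGrp.Action G X}
  (B : GLinSh.LinBun G a) [LocallyOfFiniteType X.hom] [QuasiCompact X.hom] [IsAffineHom G.hom]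

theorem appLE_res {Y Z : Scheme.{u}} (p : Y ⟶ Z) {U U' : Z.Opens} {W W' : Y.Opens} (e : W ≤ p ⁻¹ᵁ U)
    (hU : U ≤ U') (hW : W' ≤ W) (h : Γ(Z, U')) :
    Y.presheaf.map (homOfLE hW).op (p.appLE U W e (Z.presheaf.map (homOfLE hU).op h)) =
      p.appLE U' W' ((hW.trans e).trans (p.preimage_mono hU)) h := by
  rw [← CommRingCat.comp_apply, ← CommRingCat.comp_apply]
  congr 2
  rw [← Category.assoc, Scheme.Hom.map_appLE, Scheme.Hom.appLE_map]

theorem qcqs_total :
    (CompactSpace B.V.left ∧ QuasiSeparatedSpace B.V.left) ∧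
      CompactSpace (G ⊗ B.V).left ∧ QuasiSeparatedSpace (G ⊗ B.V).left := by
  haveI : IsAffineHom B.π.left := B.atlas.affine
  haveI : IsLocallyNoetherian X.left := LocallyOfFiniteType.isLocallyNoetherian X.hom
  haveI : QuasiSeparated X.hom := inferInstance
  haveI : QuasiCompact B.V.hom := by rw [← Over.w B.π]; infer_instance
  haveI : QuasiSeparated B.V.hom := by rw [← Over.w B.π]; infer_instance
  haveI : IsAffineHom (snd G B.V).left :=
    (MorphismProperty.pullback_snd G.hom B.V.hom (inferInstanceAs (IsAffineHom G.hom)) :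
      IsAffineHom (pullback.snd G.hom B.V.hom))
  haveI : QuasiCompact (G ⊗ B.V).hom := by rw [← Over.w (snd G B.V)]; infer_instance
  haveI : QuasiSeparated (G ⊗ B.V).hom := by rw [← Over.w (snd G B.V)]; infer_instance
  exact ⟨⟨QuasiCompact.compactSpace_of_compactSpace B.V.hom, quasiSeparatedSpace_of_quasiSeparated B.V.hom⟩,
    QuasiCompact.compactSpace_of_compactSpace (G ⊗ B.V).hom, quasiSeparatedSpace_of_quasiSeparated (G ⊗ B.V).hom⟩

/-- A function on the locus of a section, times a power of the section, extends to a section near every point. -/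
theorem exists_chart_weight {n : ℕ} (hn : 1 ≤ n) {f : Fn B.V} (hf : GLinSh.HasWeight B.atlas.chart n f)
    {Z : X.left.Opens} (hZ : (Z : Set X.left) = GLinSh.nonvanishing B.π f) (h : Γ(X.left, Z)) {M : ℕ} {F : Fn B.V}
    (hle : B.V.left.basicOpen f ≤ B.π.left ⁻¹ᵁ Z)
    (hF : B.V.left.presheaf.map (homOfLE le_top).op F =
      B.V.left.presheaf.map (homOfLE (B.V.left.basicOpen_le f)).op f ^ M *
        B.π.left.appLE Z (B.V.left.basicOpen f) hle h) (x : X.left) :
    ∃ (U : X.left.Opens) (y : Γ(B.V.left, B.π.left ⁻¹ᵁ U)) (W : X.left.Opens) (hWU : W ≤ U),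
      y ∈ B.atlas.chart U ∧ x ∈ W ∧ ∀ᶠ L in Filter.atTop, ∃ c : Γ(X.left, W),
        GLinSh.resTop B.π W (F * f ^ L) = B.π.left.app W c * GLinSh.res B.π hWU y ^ (n * (L + M)) := by
  obtain ⟨U, hxU, y, hy⟩ := B.atlas.cover x
  obtain ⟨W, hW, hxW, hWU⟩ := exists_isAffineOpen_mem_and_subset (x := x) (U := U) hxU
  refine ⟨U, y, W, hWU, hy, hxW, ?_⟩
  obtain ⟨c₀, hc₀⟩ := hf U y hy
  have hfW := res_relation (π := B.π) hWU hc₀
  set c := X.left.presheaf.map (homOfLE hWU).op c₀ with hc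
  set yW := GLinSh.res B.π hWU y
  haveI : IsAffineHom B.π.left := B.atlas.affine
  let D := X.left.basicOpen c
  have hDZ : D ≤ Z := fun z hz => by
    have h1 : z ∈ W ⊓ X.left.basicOpen c₀ := (Scheme.basicOpen_res _ c₀ (homOfLE hWU).op).le hz
    show z ∈ (Z : Set X.left)
    rw [hZ]
    exact (mem_nonvanishing_iff B.atlas hn hy hc₀ (hWU h1.1)).mpr h1.2
  let fW := GLinSh.resTop B.π W f
  let Vc := B.V.left.basicOpen fW
  have hVD : Vc ≤ B.π.left ⁻¹ᵁ D := by
    rw [Scheme.preimage_basicOpen, show Vc = B.V.left.basicOpen (B.π.left.app W c * yW ^ n) from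
      congrArg B.V.left.basicOpen hfW, Scheme.basicOpen_mul]
    exact inf_le_left
  have hVW : Vc ≤ B.π.left ⁻¹ᵁ W := B.V.left.basicOpen_le _
  have hVf : Vc ≤ B.V.left.basicOpen f :=
    (Scheme.basicOpen_res _ f (homOfLE (le_top : B.π.left ⁻¹ᵁ W ≤ ⊤)).op).le.trans inf_le_right
  haveI := hW.isLocalization_basicOpen c
  obtain ⟨l, b, hb⟩ := IsLocalization.Away.surj c (X.left.presheaf.map (homOfLE hDZ).op h)
  change X.left.presheaf.map (homOfLE hDZ).op h * X.left.presheaf.map (homOfLE (X.left.basicOpen_le c)).op c ^ l =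
    X.left.presheaf.map (homOfLE (X.left.basicOpen_le c)).op b at hb
  have happ : ∀ d : Γ(X.left, W), B.V.left.presheaf.map (homOfLE hVW).op (B.π.left.app W d) =
      B.π.left.appLE D Vc hVD (X.left.presheaf.map (homOfLE (X.left.basicOpen_le c)).op d) := fun d => by
    rw [← CommRingCat.comp_apply, ← CommRingCat.comp_apply, Scheme.Hom.map_appLE, Scheme.Hom.app_eq_appLE,
      Scheme.Hom.appLE_map]
  have hres : ∀ g : Fn B.V, B.V.left.presheaf.map (homOfLE hVW).op (GLinSh.resTop B.π W g) =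
      B.V.left.presheaf.map (homOfLE hVf).op (B.V.left.presheaf.map (homOfLE le_top).op g) := fun g => by
    rw [GLinSh.resTop, ← CommRingCat.comp_apply, ← CommRingCat.comp_apply, ← Functor.map_comp, ← Functor.map_comp]
    rfl
  have hz : B.V.left.presheaf.map (homOfLE hVW).op
      (GLinSh.resTop B.π W F * B.π.left.app W c ^ l - B.π.left.app W b * fW ^ M) = 0 := by
    have e1 : B.V.left.presheaf.map (homOfLE hVW).op fW = B.V.left.presheaf.map (homOfLE hVf).op
        (B.V.left.presheaf.map (homOfLE (B.V.left.basicOpen_le f)).op f) := hres f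
    have e2 : B.V.left.presheaf.map (homOfLE hVf).op (B.π.left.appLE Z (B.V.left.basicOpen f) hle h) =
        B.π.left.appLE D Vc hVD (X.left.presheaf.map (homOfLE hDZ).op h) := by
      rw [← CommRingCat.comp_apply, ← CommRingCat.comp_apply, Scheme.Hom.map_appLE, Scheme.Hom.appLE_map]
    rw [map_sub, map_mul, map_mul, map_pow, map_pow, happ c, happ b, ← hb, map_mul, map_pow, hres, hF, map_mul,
      map_pow, ← e1, e2]
    ring
  obtain ⟨L, hL⟩ := exists_pow_mul_eq_zero_of_res_basicOpen_eq_zero_of_isAffineOpen B.V.left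
    (hW.preimage B.π.left) _ fW hz
  refine Filter.eventually_atTop.mpr ⟨L + l, fun L' hL' => ?_⟩
  obtain ⟨r, rfl⟩ := Nat.exists_eq_add_of_le hL'
  refine ⟨b * c ^ (L + M) * c ^ r, ?_⟩
  have hz' : fW ^ L * GLinSh.resTop B.π W F * B.π.left.app W c ^ l = fW ^ L * B.π.left.app W b * fW ^ M := by
    linear_combination hL
  have hfW' : fW = B.π.left.app W c * yW ^ n := hfW
  rw [GLinSh.resTop, map_mul, map_pow]
  show GLinSh.resTop B.π W F * fW ^ (L + l + r) = _
  simp only [map_mul, map_pow]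
  calc GLinSh.resTop B.π W F * fW ^ (L + l + r)
      = fW ^ L * GLinSh.resTop B.π W F * B.π.left.app W c ^ l * (yW ^ n) ^ l * fW ^ r := by
        rw [pow_add, pow_add, show fW ^ l = B.π.left.app W c ^ l * (yW ^ n) ^ l by rw [hfW', mul_pow]]
        ring
    _ = fW ^ L * B.π.left.app W b * fW ^ M * (yW ^ n) ^ l * fW ^ r := by rw [hz']
    _ = _ := by
        rw [show fW = B.π.left.app W c * yW ^ n from hfW]
        ring

/-- An invariant function on the affine locus of an invariant section, times a power of the section, extends to an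
invariant section. -/
theorem exists_invSection_mul {n : ℕ} (hn : 1 ≤ n) {f : Fn B.V} (hf : B.IsInvSection n f) {Z : X.left.Opens}
    (hZ : (Z : Set X.left) = GLinSh.nonvanishing B.π f) (h : Γ(X.left, Z))
    (hle : (snd G X).left ⁻¹ᵁ Z ≤ a.act.left ⁻¹ᵁ Z)
    (hinv : a.act.left.appLE Z ((snd G X).left ⁻¹ᵁ Z) hle h = (snd G X).left.app Z h) :
    ∃ (L : ℕ) (g : Fn B.V) (hVZ : B.V.left.basicOpen f ≤ B.π.left ⁻¹ᵁ Z), 1 ≤ L ∧ B.IsInvSection (n * L) g ∧
      B.V.left.presheaf.map (homOfLE le_top).op g =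
        B.V.left.presheaf.map (homOfLE (B.V.left.basicOpen_le f)).op f ^ L *
          B.π.left.appLE Z (B.V.left.basicOpen f) hVZ h ∧
      GLinSh.nonvanishing B.π g = (X.left.basicOpen h : Set X.left) := by
  obtain ⟨⟨hVc, hVs⟩, hGc, hGs⟩ := qcqs_total B
  let Vf := B.V.left.basicOpen f
  have hVZ : Vf ≤ B.π.left ⁻¹ᵁ Z := fun v hv => by
    show B.π.left.base v ∈ (Z : Set X.left)
    rw [hZ]
    exact ⟨v, hv, rfl⟩
  obtain ⟨M, F, hF⟩ := exists_eq_pow_mul_of_isCompact_of_isQuasiSeparated B.V.left ⊤ isCompact_univ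
    (isQuasiSeparated_univ_iff.mpr hVs) f (B.π.left.appLE Z Vf hVZ h)
  dsimp only [TopCat.Presheaf.restrictOpenCommRingCat_apply] at hF
  choose U y W hWU hy hxW hev using exists_chart_weight B hn hf.1 hZ h hVZ hF
  haveI : CompactSpace X.left := QuasiCompact.compactSpace_of_compactSpace X.hom
  obtain ⟨t, ht⟩ := isCompact_univ.elim_finite_subcover (fun x => (W x : Set X.left)) (fun x => (W x).isOpen)
    fun x _ => Set.mem_iUnion.mpr ⟨x, hxW x⟩
  obtain ⟨L₀, hL₀⟩ := Filter.eventually_atTop.mp ((t.eventually_all).mpr fun x _ => hev x)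
  -- invariance
  let f₂ : Fn (G ⊗ B.V) := ev (snd G B.V) f
  have hf₂ : ev B.lift.act f = f₂ := hf.2
  let Q := (G ⊗ B.V).left.basicOpen f₂
  have hQ1 : Q ≤ B.lift.act.left ⁻¹ᵁ Vf := by
    rw [Scheme.preimage_basicOpen]
    exact (congrArg (G ⊗ B.V).left.basicOpen hf₂).ge
  have hQ2 : Q ≤ (snd G B.V).left ⁻¹ᵁ Vf := by
    rw [Scheme.preimage_basicOpen]
    rfl
  have hQP : Q ≤ (G ◁ B.π).left ⁻¹ᵁ ((snd G X).left ⁻¹ᵁ Z) := by
    show Q ≤ ((G ◁ B.π) ≫ snd G X).left ⁻¹ᵁ Z
    rw [whiskerLeft_snd]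
    exact hQ2.trans ((snd G B.V).left.preimage_mono hVZ)
  have key : ∀ (p : G ⊗ B.V ⟶ B.V) (q : G ⊗ X ⟶ X) (hq : (snd G X).left ⁻¹ᵁ Z ≤ q.left ⁻¹ᵁ Z)
      (hpq : p ≫ B.π = (G ◁ B.π) ≫ q) (hp : Q ≤ p.left ⁻¹ᵁ Vf),
      (G ⊗ B.V).left.presheaf.map (homOfLE le_top).op (ev p F) =
        (G ⊗ B.V).left.presheaf.map (homOfLE le_top).op (ev p f) ^ M *
          (G ◁ B.π).left.appLE _ Q hQP (q.left.appLE Z _ hq h) := by
    intro p q hq hpq hp
    have hev : ∀ g : Fn B.V, (G ⊗ B.V).left.presheaf.map (homOfLE le_top).op (ev p g) =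
        p.left.appLE Vf Q hp (B.V.left.presheaf.map (homOfLE le_top).op g) := fun g => by
      show (G ⊗ B.V).left.presheaf.map (homOfLE le_top).op (p.left.appTop g) = _
      rw [← CommRingCat.comp_apply, ← CommRingCat.comp_apply, Scheme.Hom.map_appLE, Scheme.Hom.appTop,
        Scheme.Hom.app_eq_appLE, Scheme.Hom.appLE_map]
    have hπ : p.left.appLE Vf Q hp (B.π.left.appLE Z Vf hVZ h) =
        (G ◁ B.π).left.appLE _ Q hQP (q.left.appLE Z _ hq h) := by
      rw [← CommRingCat.comp_apply, ← CommRingCat.comp_apply, Scheme.Hom.appLE_comp_appLE,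
        Scheme.Hom.appLE_comp_appLE]
      have e : p.left ≫ B.π.left = (G ◁ B.π).left ≫ q.left := congrArg (fun m => m.left) hpq
      simp only [e]
    rw [hev F, hev f, hF, map_mul, map_pow, hπ]
  have hinv' : (G ⊗ B.V).left.presheaf.map (homOfLE (le_top : Q ≤ ⊤)).op (ev B.lift.act F - ev (snd G B.V) F) = 0 := by
    have e2 : (snd G X).left.appLE Z _ le_rfl h = (snd G X).left.app Z h :=
      ConcreteCategory.congr_hom (Scheme.Hom.app_eq_appLE _).symm h
    rw [map_sub, key B.lift.act a.act hle B.lift_π hQ1, key (snd G B.V) (snd G X) le_rfl (whiskerLeft_snd _ _).symm hQ2,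
      hf₂, hinv, e2, sub_self]
  obtain ⟨L₁, hL₁⟩ := exists_pow_mul_eq_zero_of_res_basicOpen_eq_zero_of_isCompact (G ⊗ B.V).left
    (U := ⊤) isCompact_univ _ f₂ hinv'
  let L := L₀ + L₁ + 1
  refine ⟨L + M, F * f ^ L, hVZ, by omega, ⟨?_, ?_⟩, ?_, ?_⟩
  · refine hasWeight_of_isHomL B fun R _ _ _ s v v' hvv => ?_
    obtain ⟨x, hxt, hx⟩ := Set.mem_iUnion₂.mp (ht (Set.mem_univ ((v ≫ B.π).left.base (IsLocalRing.closedPoint R))))
    obtain ⟨c, hc⟩ := hL₀ L (by omega) x hxt
    have h1 : ⊤ ≤ v.left ⁻¹ᵁ (B.π.left ⁻¹ᵁ W x) := top_le_of_closedPoint (v ≫ B.π) hx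
    have h2 := top_le_of_base B hvv.base h1
    have hU : ∀ z : VecGrp.pt k R ⟶ B.V, ⊤ ≤ z.left ⁻¹ᵁ (B.π.left ⁻¹ᵁ W x) →
        ⊤ ≤ z.left ⁻¹ᵁ (B.π.left ⁻¹ᵁ U x) := fun z hz =>
      hz.trans (z.left.preimage_mono (B.π.left.preimage_mono (hWU x)))
    have hval : ∀ (z : VecGrp.pt k R ⟶ B.V) (hz : ⊤ ≤ z.left ⁻¹ᵁ (B.π.left ⁻¹ᵁ W x)),
        pullFn z (F * f ^ L) = lval (z ≫ B.π) (W x) hz c * lval z _ (hU z hz) (y x) ^ (n * (L + M)) := fun z hz => by
      rw [← lval_resTop z hz, lval_comp z B.π (W x) hz hz c, ← lval_res z (B.π.left.preimage_mono (hWU x)) hz (y x),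
        ← map_pow, ← map_mul]
      exact congrArg _ hc
    rw [hval v h1, hval v' h2, hvv.coord (U x) (y x) (hy x) (hU v h1) (hU v' h2), lval_congr hvv.base (W x) h2 h1]
    ring
  · show ev B.lift.act (F * f ^ L) = ev (snd G B.V) (F * f ^ L)
    rw [map_mul, map_mul, map_pow, map_pow, hf₂]
    show ev B.lift.act F * f₂ ^ L = ev (snd G B.V) F * f₂ ^ L
    rw [show L = L₁ + (L₀ + 1) by omega, pow_add]
    linear_combination f₂ ^ (L₀ + 1) * hL₁
  · rw [map_mul, map_pow, hF, pow_add]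
    ring
  · have hb : B.V.left.basicOpen (F * f ^ L) = Vf ⊓ B.π.left ⁻¹ᵁ X.left.basicOpen h := by
      rw [Scheme.basicOpen_mul, Scheme.basicOpen_pow _ _ (show 0 < L by omega), inf_comm]
      refine (Scheme.basicOpen_res _ F (homOfLE (le_top : Vf ≤ ⊤)).op).symm.trans ?_
      rw [hF, Scheme.basicOpen_mul, Scheme.preimage_basicOpen, Scheme.Hom.appLE, CommRingCat.comp_apply,
        Scheme.basicOpen_res]
      rcases Nat.eq_zero_or_pos M with rfl | hM
      · rw [pow_zero, Scheme.basicOpen_of_isUnit _ isUnit_one, ← inf_assoc, inf_idem]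
      · rw [Scheme.basicOpen_pow _ _ hM, Scheme.basicOpen_res]
        simp only [Vf, ← inf_assoc, inf_idem]
    refine Set.ext fun z => ⟨?_, fun hz => ?_⟩
    · rintro ⟨v, hv, rfl⟩
      rw [hb] at hv
      exact hv.2
    · have h1 : z ∈ GLinSh.nonvanishing B.π f := hZ ▸ X.left.basicOpen_le h hz
      obtain ⟨v, hv, rfl⟩ := h1
      exact ⟨v, by rw [hb]; exact ⟨hv, hz⟩, rfl⟩

/-- A function on the affine locus of an invariant section that is invariant gives an invariant section with that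
function's locus as non-vanishing locus. -/
theorem exists_invSection {n : ℕ} (hn : 1 ≤ n) {f : Fn B.V} (hf : B.IsInvSection n f) {Z : X.left.Opens}
    (hZ : (Z : Set X.left) = GLinSh.nonvanishing B.π f) (h : Γ(X.left, Z))
    (hle : (snd G X).left ⁻¹ᵁ Z ≤ a.act.left ⁻¹ᵁ Z)
    (hinv : a.act.left.appLE Z ((snd G X).left ⁻¹ᵁ Z) hle h = (snd G X).left.app Z h) :
    ∃ (N : ℕ) (g : Fn B.V), 1 ≤ N ∧ B.IsInvSection N g ∧
      GLinSh.nonvanishing B.π g = (X.left.basicOpen h : Set X.left) := by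
  obtain ⟨L, g, -, hL, hg, -, hnv⟩ := exists_invSection_mul B hn hf hZ h hle hinv
  exact ⟨n * L, g, Nat.mul_pos hn hL, hg, hnv⟩

variable [IsAlgClosed k] [LocallyOfFiniteType G.hom]

/-- The locus of an invariant section is invariant. -/
theorem preimage_nonvanishing {n : ℕ} {f : Fn B.V} (hf : B.IsInvSection n f) {U : X.left.Opens}
    (hU : (U : Set X.left) = GLinSh.nonvanishing B.π f) :
    a.act.left ⁻¹ᵁ U = (snd G X).left ⁻¹ᵁ U := by
  haveI : LocallyOfFiniteType (snd G X).left :=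
    (MorphismProperty.pullback_snd G.hom X.hom (inferInstanceAs (LocallyOfFiniteType G.hom)) :
      LocallyOfFiniteType (pullback.snd G.hom X.hom))
  haveI : LocallyOfFiniteType (G ⊗ X).hom := by rw [← Over.w (snd G X)]; infer_instance
  haveI : JacobsonSpace (G ⊗ X).left := LocallyOfFiniteType.jacobsonSpace (G ⊗ X).hom
  haveI : Subsingleton ((𝟙_ (Over (Spec (CommRingCat.of k)))).left : Scheme.{u}) :=
    inferInstanceAs (Subsingleton (PrimeSpectrum k))
  let o : Spec (CommRingCat.of k) := IsLocalRing.closedPoint k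
  have key : ∀ z ∈ closedPoints (G ⊗ X).left, a.act.left.base z ∈ U ↔ (snd G X).left.base z ∈ U := by
    intro z hz
    let p : 𝟙_ (Over (Spec (CommRingCat.of k))) ⟶ G ⊗ X := Over.homMk _ ((pointEquivClosedPoint (G ⊗ X).hom).symm ⟨z, hz⟩).2
    have hp : p.left.base o = z := congrArg Subtype.val ((pointEquivClosedPoint (G ⊗ X).hom).apply_symm_apply ⟨z, hz⟩)
    obtain ⟨v, hv, hg⟩ := exists_gd B (cst (p ≫ snd G X) k)
    have hv' : (lift (cst (p ≫ fst G X) k) v ≫ B.lift.act) ≫ B.π = cst (p ≫ a.act) k := by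
      rw [act_π, hv, cst, cst, cst, ← comp_lift, Category.assoc]
      congr 1
      conv_rhs => rw [show p = lift (p ≫ fst G X) (p ≫ snd G X) by ext <;> simp]
    have hb : ∀ x : 𝟙_ (Over (Spec (CommRingCat.of k))) ⟶ X,
        (cst x k).left.base (IsLocalRing.closedPoint k) = x.left.base o := fun x => by
      rw [cst, Over.comp_left, Scheme.Hom.comp_apply]
      exact congrArg _ (Subsingleton.elim _ _)
    have h1 : a.act.left.base z = ((lift (cst (p ≫ fst G X) k) v ≫ B.lift.act) ≫ B.π).left.base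
        (IsLocalRing.closedPoint k) := by rw [hv', hb, ← hp]; rfl
    have h2 : (snd G X).left.base z = (v ≫ B.π).left.base (IsLocalRing.closedPoint k) := by rw [hv, hb, ← hp]; rfl
    rw [h1, h2, ← SetLike.mem_coe, ← SetLike.mem_coe, hU, HMSec.mem_nonvanishing_iff B hf.1 _ (hg.act B _),
      HMSec.mem_nonvanishing_iff B hf.1 _ hg]
    have h : ev B.lift.act f = ev (snd G B.V) f := hf.2
    rw [GrpSchLib.Kunneth.pullFn_apply, ← GrpSchLib.Kunneth.ev_ev, h, GrpSchLib.Kunneth.ev_ev, lift_snd,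
      ← GrpSchLib.Kunneth.pullFn_apply]
  have le_of : ∀ P P' : (G ⊗ X).left.Opens, (∀ z ∈ closedPoints (G ⊗ X).left, z ∈ P → z ∈ P') → P ≤ P' := by
    intro P P' hPP z hz
    by_contra hzn
    obtain ⟨q, ⟨hq, hqn⟩, hqc⟩ := nonempty_inter_closedPoints (Z := (P : Set (G ⊗ X).left) ∩ (P' : Set (G ⊗ X).left)ᶜ)
      ⟨z, hz, hzn⟩ (P.isOpen.isLocallyClosed.inter P'.isOpen.isClosed_compl.isLocallyClosed)
    exact hqn (hPP q hqc hq)
  exact le_antisymm (le_of _ _ fun z hz h => (key z hz).mp h) (le_of _ _ fun z hz h => (key z hz).mpr h)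

end Groth.Agent.AffAct66
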