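import Groth.Agent.AffAct66.Embed
import Groth.Agent.ComodLib.Antipode
import Mathlib.AlgebraicGeometry.Morphisms.Finite

/-!
The action of a linearly reductive group on an affine scheme with closed orbits and finite stabilisers is proper.
-/

set_option autoImplicit false
set_option linter.unusedSectionVars false
set_option linter.style.haveILetI false
set_option backward.isDefEq.respectTransparency false
set_option backward.isDefEq.respectTransparency.types false

universe u

open CategoryTheory CategoryTheory.Limits MonoidalCategory CartesianMonoidalCategory MonObj GrpObj AlgebraicGeometry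
open Opposite TopologicalSpace WithConv
open Groth.Agent.GrpSchLib.Kunneth (Fn ev pullFn)
open Groth.Agent.GrpSchLib.AffineHopf (sp spMap)

namespace Groth.Agent.AffAct66

open HMAmple

variable {k : Type u} [Field k] [IsAlgClosed k] [CharZero k] {G X : Over (Spec (CommRingCat.of k))} [GrpObj G]
  (a : AlgGrp.Action G X) [IsAffine X.left] [LocallyOfFiniteType X.hom] [QuasiCompact G.hom] [IsSeparated G.hom]
  [IsReduced G.left] [LocallyOfFiniteType G.hom] [IsAffine G.left] {A : Type u} [CommRing A] [HopfAlgebra k A]
  [Algebra.FiniteType k A] [_root_.IsReduced A] (e : Grp.mk (sp k A) ≅ Grp.mk G)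

include e in
/-- Orbit maps over affine test objects are finite when all orbits of rational points are closed with finite
stabilisers. -/
theorem isFinite_psi (hA : HopfRep.IsLinearlyReductive k A)
    (hcl : ∀ x : 𝟙_ (Over (Spec (CommRingCat.of k))) ⟶ X, IsClosed (Set.range (orbit a x).left.base))
    (hfin : ∀ x : 𝟙_ (Over (Spec (CommRingCat.of k))) ⟶ X,
      {g : 𝟙_ (Over (Spec (CommRingCat.of k))) ⟶ G | lift g x ≫ a.act = x}.Finite)
    {T : Over (Spec (CommRingCat.of k))} [IsAffine T.left] (q : T ⟶ X) : IsFinite (GIT.psi a q).left := by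
  haveI : IsAffineHom T.hom := inferInstance
  haveI : IsAffineHom G.hom := inferInstance
  haveI : IsAffineHom X.hom := inferInstance
  haveI : QuasiCompact X.hom := inferInstance
  haveI : IsSeparated X.hom := inferInstance
  haveI : QuasiCompact T.hom := inferInstance
  haveI : IsSeparated T.hom := inferInstance
  obtain ⟨D⟩ := exists_gens a
  letI := linComod (repMatrix e D.M) (D.isComodMatrix e)
  haveI := isCoactAlg_linComod (repMatrix e D.M) (D.isComodMatrix e)
  have hlin := isLinear_linComod (repMatrix e D.M) (D.isComodMatrix e)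
  let u : G ⊗ T ⟶ X := lift (fst G T) (snd G T ≫ q) ≫ a.act
  have hu : GIT.psi a q ≫ fst X T = u := by
    rw [GIT.psi, lift_fst]
    congr 1
  haveI : IsAffineHom (fst X T).left := (MorphismProperty.pullback_fst X.hom T.hom (inferInstanceAs (IsAffineHom T.hom)) :
    IsAffineHom (pullback.fst X.hom T.hom))
  haveI : IsAffine (X ⊗ T).left := isAffine_of_isAffineHom (fst X T).left
  haveI : IsAffineHom (snd G T).left := (MorphismProperty.pullback_snd G.hom T.hom (inferInstanceAs (IsAffineHom G.hom)) :
    IsAffineHom (pullback.snd G.hom T.hom))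
  haveI : IsAffine (G ⊗ T).left := isAffine_of_isAffineHom (snd G T).left
  let θ : Fn (X ⊗ T) →+* Fn (G ⊗ T) := (ev (GIT.psi a q)).toRingHom
  have hint : θ.IsIntegral := fun z => by
    refine SmoothFormLib.isIntegralElem_of_valuation θ z fun K _ ρ V hρ => ?_
    letI : Algebra k K := (ρ.comp (algebraMap k (Fn (G ⊗ T)))).toAlgebra
    let ρa : Fn (G ⊗ T) →ₐ[k] K := ⟨ρ, fun _ => rfl⟩
    have hS : ∀ s : Fn T, ρ (ev (snd G T) s) ∈ V := fun s => by
      have h : ev (snd G T) s = θ (ev (snd X T) s) := by
        show _ = ev (GIT.psi a q) (ev (snd X T) s)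
        rw [GrpSchLib.Kunneth.ev_ev, GIT.psi, lift_snd]
      rw [h]
      exact hρ _
    have hk : ∀ c : k, algebraMap k K c ∈ V := fun c => by
      have := hS (algebraMap k (Fn T) c)
      rwa [AlgHom.commutes] at this
    let i₀ : A →ₐ[k] Fn (VecGrp.pt k A) :=
      ⟨(Scheme.ΓSpecIso (CommRingCat.of A)).inv.hom, fun c => by
        show (Scheme.ΓSpecIso (CommRingCat.of A)).inv (algebraMap k A c) = _
        exact ((pullFn (𝟙 (VecGrp.pt k A))).commutes c ▸ (Iso.hom_inv_id_apply (Scheme.ΓSpecIso (CommRingCat.of A)) _) :)⟩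
    let invE : A →ₐ[k] Fn G := (ev e.inv.hom.hom).comp i₀
    have hinvE : ∀ β : Fn G, invE (pullFn (univA e) β) = β := fun β => by
      show ev e.inv.hom.hom ((Scheme.ΓSpecIso (CommRingCat.of A)).inv ((Scheme.ΓSpecIso (CommRingCat.of A)).hom (ev (univA e) β))) = β
      rw [Iso.hom_inv_id_apply (Scheme.ΓSpecIso (CommRingCat.of A))]
      exact (GrpSchLib.Kunneth.ev_ev e.inv.hom.hom (univA e) β).trans
        ((congrArg (fun g => ev g β) (show e.inv.hom.hom ≫ e.hom.hom.hom = 𝟙 _ from
          congrArg (fun k => k.hom.hom) e.inv_hom_id)).trans (GrpSchLib.Kunneth.ev_id β))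
    let ψ : A →ₐ[k] K := ρa.comp ((ev (fst G T)).comp invE)
    let w : Fin D.n → V := fun i => ⟨ρ (ev (snd G T) (ev q (D.f i))), hS _⟩
    have hZ : ∀ P ∈ {P : MvPolynomial (Fin D.n) k | MvPolynomial.aeval D.f P = 0},
        MvPolynomial.aeval (fun i => (w i : K)) P = 0 := fun P hP => by
      rw [show MvPolynomial.aeval (fun i => (w i : K)) P = ρa.comp ((ev (snd G T)).comp (ev q)) (MvPolynomial.aeval D.f P)
        from (AlgHom.congr_fun (MvPolynomial.comp_aeval D.f (ρa.comp ((ev (snd G T)).comp (ev q)))) P).symm, hP, map_zero]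
    have hbd : ∀ i, ∑ j, (w j : K) * ψ (pullFn (univA e) (D.M i j)) ∈ V := fun i => by
      have h1 : ∑ j, (w j : K) * ψ (pullFn (univA e) (D.M i j)) = ρ (ev u (D.f i)) := by
        rw [← GrpSchLib.Kunneth.ev_ev, ev_act a D.f D.M D.stable i, map_sum, map_sum]
        refine Finset.sum_congr rfl fun j _ => ?_
        rw [map_mul, map_mul, GrpSchLib.Kunneth.ev_ev, GrpSchLib.Kunneth.ev_ev, lift_fst, lift_snd, _root_.mul_comm]
        refine congrArg₂ (· * ·) ?_ (congrArg ρ (GrpSchLib.Kunneth.ev_ev _ _ _))
        show ρ (ev (fst G T) (invE (pullFn (univA e) (D.M i j)))) = _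
        rw [hinvE]
      rw [h1, ← hu, ← GrpSchLib.Kunneth.ev_ev]
      exact hρ _
    have hψ : ∀ α, ψ α ∈ V := fun α => by
      have h1 := mem_of_bounded' hA hlin (F := (1 : MvPolynomial (Fin D.n) k))
        {P : MvPolynomial (Fin D.n) k | MvPolynomial.aeval D.f P = 0} (fun v hv _ => by
          have hrel : ∀ P : MvPolynomial (Fin D.n) k, MvPolynomial.aeval D.f P = 0 → MvPolynomial.aeval v P = 0 :=
            fun P hP => by rw [MvPolynomial.aeval_eq_eval]; exact hv P hP
          obtain ⟨y, hy⟩ := exists_xval_eq ((Ideal.Quotient.liftₐ (RingHom.ker (MvPolynomial.aeval (R := k) D.f))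
            (MvPolynomial.aeval v) hrel).comp (Ideal.quotientKerAlgEquivOfSurjective D.gen).symm.toAlgHom)
          have hvy : v = D.vec y := funext fun i => by
            rw [Gens.vec, hy, AlgHom.comp_apply]
            show _ = Ideal.Quotient.liftₐ _ _ hrel ((Ideal.quotientKerAlgEquivOfSurjective D.gen).symm (D.f i))
            rw [show (Ideal.quotientKerAlgEquivOfSurjective D.gen).symm (D.f i) = Ideal.Quotient.mk _ (MvPolynomial.X i) from
              (AlgEquiv.symm_apply_eq _).mpr (MvPolynomial.aeval_X D.f i).symm]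
            exact (MvPolynomial.aeval_X v i).symm
          rw [hvy]
          exact ⟨D.vec_ne_zero y, D.isStableVec e y (hcl y) (hfin y)⟩)
        (m := fun b c => repMatrix e D.M c b)
        (fun b => MvPolynomial.aeval_X (R := k) _ b) V hk (ψ.comp (HopfAlgebra.antipodeAlgHom k A)) w
        (fun b => by
          have h := hbd b
          convert h using 1
          refine Finset.sum_congr rfl fun c _ => ?_
          show _ * ψ (HopfAlgebra.antipode k (HopfAlgebra.antipode k (pullFn (univA e) (D.M b c)))) = _
          rw [ComodLib.antipode_antipode_apply (k := k) (A := A)])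
        hZ (by
          rw [map_one]
          intro hmem
          exact (ValuationSubring.coe_mem_nonunits_iff (a := (1 : V))).mp hmem isUnit_one)
        (HopfAlgebra.antipode k α)
      show ψ α ∈ V
      rw [← ComodLib.antipode_antipode_apply (k := k) α]
      exact h1
    obtain ⟨t, rfl⟩ := (GrpSchLib.Kunneth.toProd_bijective G T).2 z
    induction t using TensorProduct.induction_on with
    | zero => rw [map_zero, map_zero]; exact V.zero_mem
    | tmul g s =>
      rw [GrpSchLib.Kunneth.toProd, Algebra.TensorProduct.lift_tmul, map_mul]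
      refine V.mul_mem _ _ ?_ (hS s)
      rw [← hinvE g]
      exact hψ _
    | add s t hs ht => rw [map_add, map_add]; exact V.add_mem _ _ hs ht
  haveI : LocallyOfFiniteType (snd G T).left := (MorphismProperty.pullback_snd G.hom T.hom
    (inferInstanceAs (LocallyOfFiniteType G.hom)) : LocallyOfFiniteType (pullback.snd G.hom T.hom))
  haveI : LocallyOfFiniteType ((GIT.psi a q).left ≫ (snd X T).left) := by
    rw [← Over.comp_left, GIT.psi, lift_snd]
    infer_instance
  haveI : LocallyOfFiniteType (GIT.psi a q).left := locallyOfFiniteType_of_comp _ (snd X T).left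
  rw [HasAffineProperty.iff_of_isAffine (P := @IsFinite)]
  refine ⟨inferInstance, RingHom.IsIntegral.to_finite hint ?_⟩
  exact (HasRingHomProperty.iff_of_isAffine (P := @LocallyOfFiniteType)).mp inferInstance

end Groth.Agent.AffAct66
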