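import Groth.Agent.GrpSchLib.Action
import Groth.Agent.GrpSchLib.Kunneth
import Groth.Prelude.Def_GLinSh

/-!
Invariant opens, their restricted actions, and the loci of invariant functions.
-/

set_option autoImplicit false
set_option linter.style.haveILetI false
set_option backward.isDefEq.respectTransparency false
set_option backward.isDefEq.respectTransparency.types false

universe u

open CategoryTheory CategoryTheory.Limits MonoidalCategory CartesianMonoidalCategory MonObj GrpObj AlgebraicGeometry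
open Groth.Agent.GrpSchLib.Kunneth (Fn ev)

namespace Groth.Agent.AffAct66

section

variable {S : Scheme.{u}} {G X : Over S} [GrpObj G] (a : AlgGrp.Action G X)

/-- The restriction of an action to an invariant open. -/
theorem exists_restrict (U : X.left.Opens) (hU : a.act.left ⁻¹ᵁ U = (snd G X).left ⁻¹ᵁ U) :
    ∃ (b : AlgGrp.Action G (Over.mk (U.ι ≫ X.hom))),
      b.act ≫ (Over.homMk U.ι rfl : Over.mk (U.ι ≫ X.hom) ⟶ X) =
        (G ◁ (Over.homMk U.ι rfl : Over.mk (U.ι ≫ X.hom) ⟶ X)) ≫ a.act := by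
  let W₀ : Over S := Over.mk (U.ι ≫ X.hom)
  let i : W₀ ⟶ X := Over.homMk U.ι rfl
  have : Mono i := by
    have : Mono i.left := inferInstanceAs (Mono U.ι)
    exact Over.mono_of_mono_left i
  have hr : Set.range ((G ◁ i) ≫ a.act).left ⊆ Set.range U.ι := by
    rintro _ ⟨z, rfl⟩
    rw [Scheme.Opens.range_ι, Over.comp_left, Scheme.Hom.comp_apply]
    have h1 : (G ◁ i).left z ∈ (snd G X).left ⁻¹ᵁ U := by
      show (snd G X).left ((G ◁ i).left z) ∈ U
      rw [← Scheme.Hom.comp_apply, ← Over.comp_left, whiskerLeft_snd, Over.comp_left, Scheme.Hom.comp_apply]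
      exact ((snd G W₀).left z).2
    rw [← hU] at h1
    exact h1
  let m : G ⊗ W₀ ⟶ W₀ := Over.homMk (IsOpenImmersion.lift U.ι ((G ◁ i) ≫ a.act).left hr) (by
    show IsOpenImmersion.lift U.ι _ hr ≫ U.ι ≫ X.hom = (G ⊗ W₀).hom
    rw [IsOpenImmersion.lift_fac_assoc]
    exact Over.w ((G ◁ i) ≫ a.act))
  have hm : m ≫ i = (G ◁ i) ≫ a.act := Over.OverMorphism.ext (IsOpenImmersion.lift_fac _ _ hr)
  refine ⟨⟨m, ?_, ?_⟩, hm⟩
  · rw [← cancel_mono i, Category.assoc, hm, ← whisker_exchange_assoc, a.one_act, leftUnitor_naturality]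
  · rw [← cancel_mono i, Category.assoc, hm, ← whisker_exchange_assoc, a.mul_act]
    simp only [Category.assoc, hm, ← MonoidalCategory.whiskerLeft_comp_assoc, associator_naturality_right_assoc]

/-- Points of a restricted action. -/
theorem restrict_lift {Z : Over S} (i : Z ⟶ X) {b : AlgGrp.Action G Z} (hb : b.act ≫ i = (G ◁ i) ≫ a.act)
    {T : Over S} (g : T ⟶ G) (x : T ⟶ Z) : (lift g x ≫ b.act) ≫ i = lift g (x ≫ i) ≫ a.act := by
  rw [Category.assoc, hb, lift_whiskerLeft_assoc]

end

variable {k : Type u} [Field k] {G X : Over (Spec (CommRingCat.of k))} [GrpObj G] (a : AlgGrp.Action G X)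

/-- The locus of an invariant function is invariant. -/
theorem preimage_basicOpen_eq {h : Fn X} (hh : GLinSh.IsInvFn a h) :
    a.act.left ⁻¹ᵁ X.left.basicOpen h = (snd G X).left ⁻¹ᵁ X.left.basicOpen h := by
  rw [Scheme.preimage_basicOpen, Scheme.preimage_basicOpen]
  exact congrArg _ hh

end Groth.Agent.AffAct66
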