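import Groth.Agent.AffAct66.Restrict
import Groth.Agent.GrpSchLib.Coincidence
import Groth.Agent.GITQuot.Orbit
import Groth.Prelude.Def_W4bk4git07Quot
import Mathlib.AlgebraicGeometry.Morphisms.Finite

/-!
Orbit maps of restricted actions as restrictions of the orbit map.
-/

set_option autoImplicit false
set_option linter.unusedSectionVars false
set_option linter.style.haveILetI false
set_option backward.isDefEq.respectTransparency false
set_option backward.isDefEq.respectTransparency.types false

universe u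

open CategoryTheory CategoryTheory.Limits MonoidalCategory CartesianMonoidalCategory MonObj GrpObj AlgebraicGeometry
open TopologicalSpace

namespace Groth.Agent.AffAct66

theorem range_of_isPullback {P A B C : Scheme.{u}} {p : P ⟶ A} {q : P ⟶ B} {f : A ⟶ C} {g : B ⟶ C}
    (h : IsPullback p q f g) : Set.range p.base = f.base ⁻¹' Set.range g.base := by
  rw [← Scheme.Pullback.range_fst f g]
  refine Set.ext fun z => ⟨?_, ?_⟩
  · rintro ⟨w, rfl⟩
    exact ⟨h.isoPullback.hom.base w, by rw [← Scheme.Hom.comp_apply, h.isoPullback_hom_fst]⟩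
  · rintro ⟨w, rfl⟩
    exact ⟨h.isoPullback.inv.base w, by rw [← Scheme.Hom.comp_apply, h.isoPullback_inv_fst]⟩

/-- A commutative square with open immersions that is cartesian on points is a restriction. -/
theorem isFinite_iff_restrict {A B C D : Scheme.{u}} (p : A ⟶ B) (h : C ⟶ D) (i : B ⟶ D) [IsOpenImmersion i]
    (i' : A ⟶ C) [IsOpenImmersion i'] (w : i' ≫ h = p ≫ i) (hr : h.base ⁻¹' Set.range i.base ⊆ Set.range i'.base) :
    IsFinite p ↔ IsFinite (h ∣_ i.opensRange) := by
  have e : Set.range i'.base = Set.range (h ⁻¹ᵁ i.opensRange).ι.base := by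
    rw [Scheme.Opens.range_ι]
    refine Set.Subset.antisymm ?_ hr
    rintro _ ⟨z, rfl⟩
    show h.base (i'.base z) ∈ Set.range i.base
    rw [← Scheme.Hom.comp_apply, w]
    exact ⟨p.base z, rfl⟩
  let α := IsOpenImmersion.isoOfRangeEq i' (h ⁻¹ᵁ i.opensRange).ι e
  have hα : α.hom ≫ (h ∣_ i.opensRange) = p ≫ i.isoOpensRange.hom := by
    rw [← cancel_mono i.opensRange.ι, Category.assoc, Category.assoc, morphismRestrict_ι,
      Scheme.Hom.isoOpensRange_hom_ι, ← Category.assoc, IsOpenImmersion.isoOfRangeEq_hom_fac, w]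
  rw [← MorphismProperty.cancel_left_of_respectsIso @IsFinite α.hom (h ∣_ i.opensRange), hα,
    MorphismProperty.cancel_right_of_respectsIso @IsFinite]

/-- Finiteness over opens gives finiteness over their union. -/
theorem isFinite_restrict_of_le_iSup {C D : Scheme.{u}} (h : C ⟶ D) {κ : Type*} (O : κ → D.Opens) (U : D.Opens)
    (hU : U ≤ iSup O) (hle : ∀ l, O l ≤ U) (H : ∀ l, IsFinite (h ∣_ O l)) : IsFinite (h ∣_ U) := by
  refine IsZariskiLocalAtTarget.of_iSup_eq_top (P := @IsFinite) (fun l => U.ι ⁻¹ᵁ O l) (top_le_iff.mp fun z _ => ?_)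
    fun l => ?_
  · obtain ⟨l, hl⟩ := Opens.mem_iSup.mp (hU z.2)
    exact Opens.mem_iSup.mpr ⟨l, hl⟩
  · rw [(MorphismProperty.arrow_mk_iso_iff @IsFinite (morphismRestrictRestrict h U (U.ι ⁻¹ᵁ O l))),
      (MorphismProperty.arrow_mk_iso_iff @IsFinite (morphismRestrictEq h
        (show U.ι ''ᵁ U.ι ⁻¹ᵁ O l = O l by
          rw [Scheme.Hom.image_preimage_eq_opensRange_inf, Scheme.Opens.opensRange_ι]
          exact inf_eq_right.mpr (hle l))))]
    exact H l

/-- Over the complement of the image a morphism is finite. -/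
theorem isFinite_restrict_of_eq_bot {C D : Scheme.{u}} (h : C ⟶ D) (O : D.Opens) (hO : h ⁻¹ᵁ O = ⊥) :
    IsFinite (h ∣_ O) := by
  haveI : IsEmpty (h ⁻¹ᵁ O).toScheme := ⟨fun z => by
    have : z.1 ∈ (⊥ : C.Opens) := hO ▸ (SetLike.mem_coe.mp z.2)
    exact this⟩
  infer_instance

section

variable {S : Scheme.{u}} {G X Z : Over S} [GrpObj G] (a : AlgGrp.Action G X) {b : AlgGrp.Action G Z} (j : Z ⟶ X)

theorem psi_restrict (hb : b.act ≫ j = (G ◁ j) ≫ a.act) {T : Over S} (q : T ⟶ Z) :
    GIT.psi b q ≫ (j ▷ T) = GIT.psi a (q ≫ j) := by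
  apply CartesianMonoidalCategory.hom_ext
  · simp only [GIT.psi, Category.assoc, whiskerRight_fst, lift_fst, lift_fst_assoc]
    rw [hb, MonoidalCategory.whiskerLeft_comp_assoc]
  · simp [GIT.psi]

theorem psi_square {T : Over S} (f : T ⟶ X) :
    (G ◁ f) ≫ GIT.psi a (𝟙 X) = GIT.psi a f ≫ (X ◁ f) := by
  apply CartesianMonoidalCategory.hom_ext
  · simp [GIT.psi]
  · simp [GIT.psi]

variable [IsOpenImmersion j.left]

theorem isOpenImmersion_whiskerRight (T : Over S) : IsOpenImmersion (j ▷ T).left :=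
  MorphismProperty.of_isPullback (P := @IsOpenImmersion) (GITQuot.isPullback_whiskerRight (φ := j) (Z := T))
    inferInstance

theorem range_whiskerRight (T : Over S) :
    Set.range (j ▷ T).left.base = (fst X T).left.base ⁻¹' Set.range j.left.base :=
  range_of_isPullback (GITQuot.isPullback_whiskerRight (φ := j) (Z := T)).flip

theorem isOpenImmersion_whiskerLeft (T : Over S) : IsOpenImmersion (T ◁ j).left :=
  MorphismProperty.of_isPullback (P := @IsOpenImmersion) (GrpSchLib.isPullback_whiskerLeft (W := T) j).flip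
    inferInstance

theorem range_whiskerLeft (T : Over S) :
    Set.range (T ◁ j).left.base = (snd T X).left.base ⁻¹' Set.range j.left.base :=
  range_of_isPullback (GrpSchLib.isPullback_whiskerLeft (W := T) j)

theorem range_box {W : Over S} (i : W ⟶ X) [IsOpenImmersion i.left] :
    Set.range ((j ▷ W) ≫ (X ◁ i)).left.base =
      (fst X X).left.base ⁻¹' Set.range j.left.base ∩ (snd X X).left.base ⁻¹' Set.range i.left.base := by
  have h1 : ∀ p : (X ⊗ W).left, (fst X X).left.base ((X ◁ i).left.base p) = (fst X W).left.base p := fun p => by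
    rw [← Scheme.Hom.comp_apply, ← Over.comp_left, whiskerLeft_fst]
  rw [Over.comp_left, Scheme.Hom.comp_base, TopCat.coe_comp, Set.range_comp, range_whiskerRight j W,
    ← range_whiskerLeft i X]
  refine Set.ext fun z => ⟨?_, ?_⟩
  · rintro ⟨p, hp, rfl⟩
    refine ⟨?_, p, rfl⟩
    rw [Set.mem_preimage, h1 p]
    exact hp
  · rintro ⟨hz, p, rfl⟩
    refine ⟨p, ?_, rfl⟩
    rw [Set.mem_preimage, h1 p] at hz
    exact hz

/-- The restricted orbit map is the orbit map over the open, for test objects landing in it. -/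
theorem isFinite_psi_restrict_iff (hb : b.act ≫ j = (G ◁ j) ≫ a.act)
    {T : Over S} (q : T ⟶ Z) {O : (X ⊗ T).left.Opens}
    (hO : (O : Set (X ⊗ T).left) = (fst X T).left.base ⁻¹' Set.range j.left.base) :
    IsFinite (GIT.psi b q).left ↔ IsFinite ((GIT.psi a (q ≫ j)).left ∣_ O) := by
  haveI := isOpenImmersion_whiskerRight j T
  haveI : IsOpenImmersion (𝟙 (G ⊗ T) : G ⊗ T ⟶ G ⊗ T).left := inferInstanceAs (IsOpenImmersion (𝟙 _))
  have h := isFinite_iff_restrict (GIT.psi b q).left (GIT.psi a (q ≫ j)).left (j ▷ T).left (𝟙 _)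
    (by rw [Category.id_comp, ← Over.comp_left, psi_restrict a j hb q])
    (fun z _ => ⟨z, rfl⟩)
  rwa [show (j ▷ T).left.opensRange = O from SetLike.coe_injective ((range_whiskerRight j T).trans hO.symm)] at h

/-- Over a box of invariant opens the orbit map is the restricted orbit map. -/
theorem isFinite_psi_box_iff (hb : b.act ≫ j = (G ◁ j) ≫ a.act)
    {W : Over S} (q : W ⟶ Z) (i : W ⟶ X) [IsOpenImmersion i.left] (hq : q ≫ j = i) {O : (X ⊗ X).left.Opens}
    (hO : (O : Set (X ⊗ X).left) =
      (fst X X).left.base ⁻¹' Set.range j.left.base ∩ (snd X X).left.base ⁻¹' Set.range i.left.base) :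
    IsFinite (GIT.psi b q).left ↔ IsFinite ((GIT.psi a (𝟙 X)).left ∣_ O) := by
  haveI := isOpenImmersion_whiskerRight j W
  haveI := isOpenImmersion_whiskerLeft i X
  haveI := isOpenImmersion_whiskerLeft i G
  haveI : IsOpenImmersion ((j ▷ W) ≫ (X ◁ i)).left := by rw [Over.comp_left]; infer_instance
  have h := isFinite_iff_restrict (GIT.psi b q).left (GIT.psi a (𝟙 X)).left ((j ▷ W) ≫ (X ◁ i)).left (G ◁ i).left
    (by rw [← Over.comp_left, ← Over.comp_left, psi_square, ← Category.assoc, psi_restrict a j hb q, hq])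
    (fun z hz => by
      have h2 : (GIT.psi a (𝟙 X)).left.base z ∈ Set.range ((j ▷ W) ≫ (X ◁ i)).left.base := hz
      rw [range_box] at h2
      rw [range_whiskerLeft]
      have h3 := h2.2
      rw [Set.mem_preimage, ← Scheme.Hom.comp_apply, ← Over.comp_left, GIT.psi, lift_snd] at h3
      exact h3)
  rwa [show ((j ▷ W) ≫ (X ◁ i)).left.opensRange = O from
    SetLike.coe_injective ((range_box j i).trans hO.symm)] at h

end

end Groth.Agent.AffAct66
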