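import Groth.Agent.AffAct66.BaseChange
import Groth.Agent.AffAct66.Restrict
import Groth.Agent.AffAct66.Square
import Groth.Agent.GITQuot.Orbit
import Groth.Agent.SSQuot66.Geometric

/-!
Actions with an affine geometric quotient map and finite stabilisers are proper.
-/

set_option autoImplicit false
set_option linter.unusedSectionVars false
set_option linter.style.haveILetI false
set_option backward.isDefEq.respectTransparency false
set_option backward.isDefEq.respectTransparency.types false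

universe u

open CategoryTheory CategoryTheory.Limits MonoidalCategory CartesianMonoidalCategory MonObj GrpObj AlgebraicGeometry
open TopologicalSpace

namespace Groth.Agent.AffAct66

open EqIntLib

/-- Quasi-finiteness of the stabilisers passes to invariant opens. -/
theorem locallyQuasiFinite_stabHom_restrict {S : Scheme.{u}} {G X Z : Over S} [GrpObj G] {a : AlgGrp.Action G X}
    {b : AlgGrp.Action G Z} {j : Z ⟶ X} [IsOpenImmersion j.left] [IsOpenImmersion (G ◁ j).left]
    (hb : b.act ≫ j = (G ◁ j) ≫ a.act) [LocallyQuasiFinite (stabHom a)] : LocallyQuasiFinite (stabHom b) := by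
  let w : pullback (GIT.psi b (𝟙 Z)).left (lift (𝟙 Z) (𝟙 Z)).left ⟶
      pullback (GIT.psi a (𝟙 X)).left (lift (𝟙 X) (𝟙 X)).left :=
    pullback.map _ _ _ _ (G ◁ j).left j.left (j ⊗ₘ j).left
      (by
        have e : GIT.psi b (𝟙 Z) ≫ (j ⊗ₘ j) = (G ◁ j) ≫ GIT.psi a (𝟙 X) := by
          apply CartesianMonoidalCategory.hom_ext
          · simp [GIT.psi, hb]
          · simp [GIT.psi]
        exact congrArg (fun t => t.left) e)
      (by
        have e : lift (𝟙 Z) (𝟙 Z) ≫ (j ⊗ₘ j) = j ≫ lift (𝟙 X) (𝟙 X) := by simp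
        exact congrArg (fun t => t.left) e)
  haveI : IsImmersion (lift (𝟙 Z) (𝟙 Z)).left := by
    rw [show (lift (𝟙 Z) (𝟙 Z)).left = pullback.diagonal Z.hom from by
      apply pullback.hom_ext
      · rw [pullback.diagonal_fst]
        exact congrArg (fun t => t.left) (lift_fst (𝟙 Z) (𝟙 Z))
      · rw [pullback.diagonal_snd]
        exact congrArg (fun t => t.left) (lift_snd (𝟙 Z) (𝟙 Z))]
    infer_instance
  haveI : LocallyQuasiFinite (w ≫ pullback.fst _ _) := by
    rw [pullback.lift_fst]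
    infer_instance
  haveI : LocallyQuasiFinite w := LocallyQuasiFinite.of_comp w (pullback.fst _ _)
  haveI : LocallyQuasiFinite (stabHom b ≫ j.left) := by
    rw [show stabHom b ≫ j.left = w ≫ stabHom a from (pullback.lift_snd _ _ _).symm]
    infer_instance
  exact LocallyQuasiFinite.of_comp (stabHom b) j.left

variable {k : Type u} [Field k] [CharZero k] {G X Y : Over (Spec (CommRingCat.of k))} [GrpObj G]

/-- An action with finite stabilisers and an affine geometric quotient map to a separated scheme is proper. -/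
theorem isFinite_psi_of_geomQuot (hG : Red.IsReductive G) [LocallyOfFiniteType X.hom] [IsSeparated Y.hom]
    (a : AlgGrp.Action G X) [LocallyQuasiFinite (stabHom a)] (φ : X ⟶ Y) (h : GIT.IsGeomQuot a φ)
    [IsAffineHom φ.left] : IsFinite (GIT.psi a (𝟙 X)).left := by
  haveI := hG.1
  haveI : IsClosedImmersion (lift (𝟙 Y) (𝟙 Y)).left := by
    rw [show (lift (𝟙 Y) (𝟙 Y)).left = pullback.diagonal Y.hom from by
      apply pullback.hom_ext
      · rw [pullback.diagonal_fst]
        exact congrArg (fun t => t.left) (lift_fst (𝟙 Y) (𝟙 Y))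
      · rw [pullback.diagonal_snd]
        exact congrArg (fun t => t.left) (lift_snd (𝟙 Y) (𝟙 Y))]
    infer_instance
  let E : (X ⊗ X).left.Opens := ⟨((φ ⊗ₘ φ).left.base ⁻¹' Set.range (lift (𝟙 Y) (𝟙 Y)).left.base)ᶜ,
    ((lift (𝟙 Y) (𝟙 Y)).left.isClosedEmbedding.isClosed_range.preimage (φ ⊗ₘ φ).left.continuous).isOpen_compl⟩
  let box : Y.left.affineOpens → (X ⊗ X).left.Opens := fun V =>
    (fst X X).left ⁻¹ᵁ (φ.left ⁻¹ᵁ V.1) ⊓ (snd X X).left ⁻¹ᵁ (φ.left ⁻¹ᵁ V.1)
  let U : Option Y.left.affineOpens → (X ⊗ X).left.Opens := fun o => o.elim E box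
  refine IsZariskiLocalAtTarget.of_iSup_eq_top (P := @IsFinite) U (top_le_iff.mp fun z _ => ?_) ?_
  · by_cases hz : (φ ⊗ₘ φ).left.base z ∈ Set.range (lift (𝟙 Y) (𝟙 Y)).left.base
    · obtain ⟨y, hy⟩ := hz
      obtain ⟨V, hV, hyV⟩ : ∃ V : Y.left.affineOpens, True ∧ y ∈ V.1 := by
        obtain ⟨V, hV, hyV, -⟩ := exists_isAffineOpen_mem_and_subset (X := Y.left) (x := y) (U := ⊤) trivial
        exact ⟨⟨V, hV⟩, trivial, hyV⟩
      refine Opens.mem_iSup.mpr ⟨some V, ?_, ?_⟩
      · show ((fst X X) ≫ φ).left.base z ∈ V.1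
        rw [← tensorHom_fst φ φ, Over.comp_left, Scheme.Hom.comp_apply, ← hy, ← Scheme.Hom.comp_apply,
          ← Over.comp_left, lift_fst]
        exact hyV
      · show ((snd X X) ≫ φ).left.base z ∈ V.1
        rw [← tensorHom_snd φ φ, Over.comp_left, Scheme.Hom.comp_apply, ← hy, ← Scheme.Hom.comp_apply,
          ← Over.comp_left, lift_snd]
        exact hyV
    · exact Opens.mem_iSup.mpr ⟨none, hz⟩
  rintro (_ | V)
  · refine isFinite_restrict_of_eq_bot _ _ (eq_bot_iff.mpr fun w hw => (?_ : False).elim)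
    refine hw ⟨((snd G X) ≫ φ).left.base w, ?_⟩
    have e : ((snd G X) ≫ φ) ≫ lift (𝟙 Y) (𝟙 Y) = GIT.psi a (𝟙 X) ≫ (φ ⊗ₘ φ) := by
      apply CartesianMonoidalCategory.hom_ext
      · simp [GIT.psi]
        exact h.1.symm
      · simp [GIT.psi]
    exact congrArg (fun t => t.left.base w) e
  let P := φ.left ⁻¹ᵁ V.1
  have hPinv : a.act.left ⁻¹ᵁ P = (snd G X).left ⁻¹ᵁ P := by
    show (a.act.left ≫ φ.left) ⁻¹ᵁ V.1 = ((snd G X).left ≫ φ.left) ⁻¹ᵁ V.1
    rw [← Over.comp_left, ← Over.comp_left, h.1]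
  obtain ⟨b, hb⟩ := exists_restrict a P hPinv
  let j : Over.mk (P.ι ≫ X.hom) ⟶ X := Over.homMk P.ι rfl
  haveI : IsOpenImmersion j.left := inferInstanceAs (IsOpenImmersion P.ι)
  haveI := isOpenImmersion_whiskerLeft j G
  haveI : IsAffine (Over.mk (P.ι ≫ X.hom)).left := V.2.preimage φ.left
  haveI : LocallyOfFiniteType (Over.mk (P.ι ≫ X.hom)).hom := inferInstanceAs (LocallyOfFiniteType (P.ι ≫ X.hom))
  haveI := locallyQuasiFinite_stabHom_restrict hb
  have hcl : GIT.IsClosedAction b := fun Ω _ _ T t q => by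
    rw [SSQuot66.range_psi_restrict hb q]
    exact (GITQuot.isClosedAction h Ω T t (q ≫ j)).preimage (j ▷ T).left.continuous
  have hp := isProper_psi_of_isClosedAction b hG hcl
  have hf : IsFinite (GIT.psi b (𝟙 _)).left := by
    haveI : IsAffineHom (snd G (Over.mk (P.ι ≫ X.hom))).left := (MorphismProperty.pullback_snd G.hom _
      (inferInstanceAs (IsAffineHom G.hom)) : IsAffineHom (pullback.snd G.hom (Over.mk (P.ι ≫ X.hom)).hom))
    haveI : IsAffine (G ⊗ Over.mk (P.ι ≫ X.hom)).left := isAffine_of_isAffineHom (snd G _).left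
    haveI : IsAffineHom (snd (Over.mk (P.ι ≫ X.hom)) (Over.mk (P.ι ≫ X.hom))).left := (MorphismProperty.pullback_snd
      (Over.mk (P.ι ≫ X.hom)).hom _ (inferInstanceAs (IsAffineHom (Over.mk (P.ι ≫ X.hom)).hom)) :
        IsAffineHom (pullback.snd (Over.mk (P.ι ≫ X.hom)).hom (Over.mk (P.ι ≫ X.hom)).hom))
    haveI : IsAffine (Over.mk (P.ι ≫ X.hom) ⊗ Over.mk (P.ι ≫ X.hom)).left :=
      isAffine_of_isAffineHom (snd (Over.mk (P.ι ≫ X.hom)) (Over.mk (P.ι ≫ X.hom))).left
    exact IsFinite.iff_isProper_and_isAffineHom.mpr ⟨hp, inferInstance⟩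
  exact (isFinite_psi_box_iff a j hb (𝟙 _) j (Category.id_comp _) (O := box V) (by
    show _ = _ ⁻¹' Set.range P.ι.base ∩ _ ⁻¹' Set.range P.ι.base
    rw [Scheme.Opens.range_ι]
    rfl)).mp hf

end Groth.Agent.AffAct66
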