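import Groth.Agent.AffAct66.Local
import Groth.Agent.HMAmple.Orbit

/-!
The action on the locus of properly stable points is proper.
-/

set_option autoImplicit false
set_option linter.unusedSectionVars false
set_option linter.style.haveILetI false
set_option backward.isDefEq.respectTransparency false
set_option backward.isDefEq.respectTransparency.types false

universe u

open CategoryTheory CategoryTheory.Limits MonoidalCategory CartesianMonoidalCategory MonObj GrpObj AlgebraicGeometry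
open Opposite TopologicalSpace
open Groth.Agent.GrpSchLib.Kunneth (Fn ev pullFn)

namespace Groth.Agent.AffAct66

open HMAmple HMSec

variable {k : Type u} [Field k] {G X : Over (Spec (CommRingCat.of k))} [GrpObj G] {a : AlgGrp.Action G X}
  (B : GLinSh.LinBun G a)

theorem IsInvSection_pow {n : ℕ} {f : Fn B.V} (h : B.IsInvSection n f) (m : ℕ) : B.IsInvSection (n * m) (f ^ m) := by
  refine ⟨hasWeight_of_isHomL B ((isHomL_of_hasWeight B h.1).pow' B m), ?_⟩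
  show ev B.lift.act (f ^ m) = ev (snd G B.V) (f ^ m)
  rw [map_pow, map_pow]
  exact congrArg (· ^ m) h.2

theorem nonvanishing_pow {m : ℕ} (hm : 0 < m) (f : Fn B.V) :
    GLinSh.nonvanishing B.π (f ^ m) = GLinSh.nonvanishing B.π f := by
  rw [GLinSh.nonvanishing, GLinSh.nonvanishing, Scheme.basicOpen_pow _ _ hm]

/-- The value of a ratio at a valued point, from a vector over it. -/
theorem lval_ratio_mul {n : ℕ} (hn : 1 ≤ n) {f g : Fn B.V} (hf : GLinSh.HasWeight B.atlas.chart n f)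
    (hg : GLinSh.HasWeight B.atlas.chart n g) {b : Γ(X.left, nzOpen B.atlas hn hg)}
    (hb : GLinSh.resTop B.π (nzOpen B.atlas hn hg) f =
      B.π.left.app _ b * GLinSh.resTop B.π (nzOpen B.atlas hn hg) g)
    {R : Type u} [CommRing R] [Algebra k R] (v : VecGrp.pt k R ⟶ B.V)
    (hv' : ⊤ ≤ (v ≫ B.π).left ⁻¹ᵁ nzOpen B.atlas hn hg) :
    pullFn v f = lval (v ≫ B.π) _ hv' b * pullFn v g := by
  have hv : ⊤ ≤ v.left ⁻¹ᵁ (B.π.left ⁻¹ᵁ nzOpen B.atlas hn hg) := hv'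
  rw [← lval_resTop v hv f, ← lval_resTop v hv g, lval_comp v B.π _ hv' hv b, ← map_mul]
  exact congrArg _ hb

theorem lval_appLE {Y : Over (Spec (CommRingCat.of k))} (p : Y ⟶ X) {U : X.left.Opens} {O : Y.left.Opens}
    (e : O ≤ p.left ⁻¹ᵁ U) {R : Type u} [CommRing R] [Algebra k R] (q : VecGrp.pt k R ⟶ Y) (h : ⊤ ≤ q.left ⁻¹ᵁ O)
    (s : Γ(X.left, U)) :
    lval q O h (p.left.appLE U O e s) = lval (q ≫ p) U (h.trans (q.left.preimage_mono e)) s := by
  rw [Scheme.Hom.appLE, CommRingCat.comp_apply, lval_comp q p U _ (h.trans (q.left.preimage_mono e)) s]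
  exact lval_res q e h _

variable [IsAlgClosed k] [CharZero k] [LocallyOfFiniteType X.hom] [QuasiCompact X.hom]

/-- Over a box of two charts the orbit map is finite. -/
theorem isFinite_psi_boxes (hG : Red.IsReductive G) {N₁ N₂ : ℕ} (hN₁ : 1 ≤ N₁) (hN₂ : 1 ≤ N₂) {g₁ g₂ : Fn B.V}
    (h₁ : B.IsInvSection N₁ g₁) (h₂ : B.IsInvSection N₂ g₂) {U₁ U₂ : X.left.Opens}
    (hU₁ : (U₁ : Set X.left) = GLinSh.nonvanishing B.π g₁) (hU₂ : (U₂ : Set X.left) = GLinSh.nonvanishing B.π g₂)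
    (hU₁a : IsAffineOpen U₁) {b : AlgGrp.Action G (Over.mk (U₁.ι ≫ X.hom))}
    (hb : b.act ≫ (Over.homMk U₁.ι rfl : Over.mk (U₁.ι ≫ X.hom) ⟶ X) =
      (G ◁ (Over.homMk U₁.ι rfl : Over.mk (U₁.ι ≫ X.hom) ⟶ X)) ≫ a.act)
    (hfin : ∀ {T : Over (Spec (CommRingCat.of k))} [IsAffine T.left] (q : T ⟶ Over.mk (U₁.ι ≫ X.hom)),
      IsFinite (GIT.psi b q).left) :
    IsFinite ((GIT.psi a (𝟙 X)).left ∣_ ((fst X X).left ⁻¹ᵁ U₁ ⊓ (snd X X).left ⁻¹ᵁ U₂)) := by
  haveI := hG.1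
  haveI := hG.2.1
  haveI : LocallyOfFiniteType (snd G X).left :=
    (MorphismProperty.pullback_snd G.hom X.hom (inferInstanceAs (LocallyOfFiniteType G.hom)) :
      LocallyOfFiniteType (pullback.snd G.hom X.hom))
  haveI : LocallyOfFiniteType (G ⊗ X).hom := by rw [← Over.w (snd G X)]; infer_instance
  haveI : JacobsonSpace (G ⊗ X).left := LocallyOfFiniteType.jacobsonSpace (G ⊗ X).hom
  have hN : 1 ≤ N₁ * N₂ := Nat.mul_pos hN₁ hN₂
  obtain ⟨hw₁, hi₁⟩ := IsInvSection_pow B h₁ N₂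
  obtain ⟨hw₂', hi₂⟩ := IsInvSection_pow B h₂ N₁
  have hw₂ : GLinSh.HasWeight B.atlas.chart (N₁ * N₂) (g₂ ^ N₁) := Nat.mul_comm N₂ N₁ ▸ hw₂'
  let T₁ := nzOpen B.atlas hN hw₁
  let T₂ := nzOpen B.atlas hN hw₂
  have hT₁ : T₁ = U₁ := Opens.ext ((nonvanishing_pow B hN₂ g₁).trans hU₁.symm)
  have hT₂ : T₂ = U₂ := Opens.ext ((nonvanishing_pow B hN₁ g₂).trans hU₂.symm)
  obtain ⟨c, hc⟩ := exists_ratio B.atlas hN hw₂ hw₁
  obtain ⟨b₁, hb₁⟩ := exists_eq_mul B.atlas hN hw₂ hw₁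
  obtain ⟨b₂, hb₂⟩ := exists_eq_mul B.atlas hN hw₁ hw₂
  subst hT₁ hT₂
  set O := (fst X X).left ⁻¹ᵁ T₁ ⊓ (snd X X).left ⁻¹ᵁ T₂
  let d : Γ((X ⊗ X).left, O) :=
    (fst X X).left.appLE T₁ O inf_le_left b₁ * (snd X X).left.appLE T₂ O inf_le_right b₂
  have hb₂' : X.left.basicOpen b₂ ≤ T₁ := by
    intro z hz
    have hzT : z ∈ T₂ := X.left.basicOpen_le b₂ hz
    obtain ⟨v, hv, rfl⟩ := id (hzT : z ∈ GLinSh.nonvanishing B.π (g₂ ^ N₁))
    refine ⟨v, ?_, rfl⟩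
    have h1 : v ∈ B.V.left.basicOpen (B.π.left.app T₂ b₂ * GLinSh.resTop B.π T₂ (g₂ ^ N₁)) := by
      rw [Scheme.basicOpen_mul]
      exact ⟨by rw [← Scheme.preimage_basicOpen]; exact hz, by rw [Scheme.basicOpen_res]; exact ⟨hzT, hv⟩⟩
    rw [← hb₂, Scheme.basicOpen_res] at h1
    exact h1.2
  let O' := (fst X X).left ⁻¹ᵁ T₁ ⊓ (snd X X).left ⁻¹ᵁ (T₁ ⊓ T₂)
  let O'' := (X ⊗ X).left.basicOpen (1 - d)
  refine isFinite_restrict_of_le_iSup _ (fun i : Bool => if i then O' else O'') O ?_ ?_ ?_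
  · intro z hz
    have h1 : z ∈ (X ⊗ X).left.basicOpen (d + (1 - d)) := by
      rw [add_sub_cancel, Scheme.basicOpen_of_isUnit _ isUnit_one]
      exact hz
    rcases Scheme.basicOpen_add_le _ d (1 - d) h1 with h | h
    · refine Opens.mem_iSup.mpr ⟨true, hz.1, ?_, hz.2⟩
      rw [Scheme.basicOpen_mul] at h
      have h' := h.2
      rw [Scheme.Hom.appLE, CommRingCat.comp_apply, Scheme.basicOpen_res, ← Scheme.preimage_basicOpen] at h'
      exact hb₂' h'.2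
    · exact Opens.mem_iSup.mpr ⟨false, h⟩
  · rintro (_ | _)
    · exact (X ⊗ X).left.basicOpen_le _
    · exact fun z hz => ⟨hz.1, hz.2.2⟩
  rintro (_ | _)
  · refine isFinite_restrict_of_eq_bot _ _ (eq_bot_iff.mpr fun z hz => ?_)
    exfalso
    obtain ⟨w, hw, hwc⟩ := nonempty_inter_closedPoints
      (Z := (((GIT.psi a (𝟙 X)).left ⁻¹ᵁ O'' : (G ⊗ X).left.Opens) : Set (G ⊗ X).left)) ⟨z, hz⟩
      (Opens.isOpen _).isLocallyClosed
    let p : 𝟙_ (Over (Spec (CommRingCat.of k))) ⟶ G ⊗ X :=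
      Over.homMk _ ((pointEquivClosedPoint (G ⊗ X).hom).symm ⟨w, hwc⟩).2
    have hp : p.left.base (IsLocalRing.closedPoint k) = w :=
      congrArg Subtype.val ((pointEquivClosedPoint (G ⊗ X).hom).apply_symm_apply ⟨w, hwc⟩)
    let P := cst p k
    have hP : P.left.base (IsLocalRing.closedPoint k) = w := by
      haveI : Subsingleton ((𝟙_ (Over (Spec (CommRingCat.of k)))).left : Scheme.{u}) :=
        inferInstanceAs (Subsingleton (PrimeSpectrum k))
      rw [← hp]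
      show (toUnit _ ≫ p).left.base _ = _
      rw [Over.comp_left, Scheme.Hom.comp_apply]
      exact congrArg _ (Subsingleton.elim _ _)
    let q := P ≫ GIT.psi a (𝟙 X)
    have hq'' : ⊤ ≤ q.left ⁻¹ᵁ O'' := top_le_of_closedPoint q (by
      show (GIT.psi a (𝟙 X)).left.base (P.left.base _) ∈ O''
      rw [hP]
      exact hw)
    have hq : ⊤ ≤ q.left ⁻¹ᵁ O := hq''.trans (q.left.preimage_mono ((X ⊗ X).left.basicOpen_le _))
    have hu : IsUnit (lval q O hq (1 - d)) := by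
      rw [← lval_res q ((X ⊗ X).left.basicOpen_le (1 - d)) hq'']
      exact (RingedSpace.isUnit_res_basicOpen (X ⊗ X).left.toLocallyRingedSpace.toRingedSpace (1 - d)).map
        (lval q _ hq'')
    refine hu.ne_zero ?_
    rw [map_sub, map_one, map_mul, lval_appLE, lval_appLE, sub_eq_zero]
    obtain ⟨v, hv, hgd⟩ := exists_gd B (P ≫ snd G X)
    let v' := lift (P ≫ fst G X) v ≫ B.lift.act
    have e₁ : v' ≫ B.π = q ≫ fst X X := by
      rw [act_π, hv, ← comp_lift, lift_fst_snd, Category.comp_id, Category.assoc, GIT.psi, lift_fst,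
        MonoidalCategory.whiskerLeft_id, Category.id_comp]
    have e₂ : v ≫ B.π = q ≫ snd X X := by rw [hv, Category.assoc, GIT.psi, lift_snd]
    have hx₁ : ⊤ ≤ (v' ≫ B.π).left ⁻¹ᵁ T₁ := by
      rw [e₁]; exact hq.trans (q.left.preimage_mono inf_le_left)
    have hx₂ : ⊤ ≤ (v ≫ B.π).left ⁻¹ᵁ T₂ := by
      rw [e₂]; exact hq.trans (q.left.preimage_mono inf_le_right)
    have hinv : ∀ f : Fn B.V, GLinSh.IsInvFn B.lift f → pullFn v' f = pullFn v f := fun f hf => by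
      rw [GrpSchLib.Kunneth.pullFn_apply, ← GrpSchLib.Kunneth.ev_ev, show ev B.lift.act f = ev (snd G B.V) f from hf,
        GrpSchLib.Kunneth.ev_ev, lift_snd, ← GrpSchLib.Kunneth.pullFn_apply]
    have hα : pullFn v' (g₁ ^ N₂) ≠ 0 :=
      (HMSec.mem_nonvanishing_iff B hw₁ v' (hgd.act B _)).mp (hx₁ (Set.mem_univ _))
    have r₁ := lval_ratio_mul B hN hw₂ hw₁ hb₁ v' hx₁
    have r₂ := lval_ratio_mul B hN hw₁ hw₂ hb₂ v hx₂
    rw [← hinv _ hi₁, ← hinv _ hi₂, r₁, ← _root_.mul_assoc] at r₂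
    rw [lval_congr e₁.symm _ _ hx₁, lval_congr e₂.symm _ _ hx₂, _root_.mul_comm]
    exact mul_right_cancel₀ hα ((_root_.one_mul _).trans r₂)
  · let WO : Over (Spec (CommRingCat.of k)) := Over.mk ((T₁ ⊓ T₂).ι ≫ X.hom)
    let i : WO ⟶ X := Over.homMk (T₁ ⊓ T₂).ι rfl
    have hTa : IsAffineOpen (T₁ ⊓ T₂) := by
      have h1 := hU₁a.basicOpen c
      rw [basicOpen_ratio B.atlas hN hw₂ hw₁ hc] at h1
      exact h1
    haveI : IsAffine WO.left := hTa
    haveI : IsOpenImmersion i.left := inferInstanceAs (IsOpenImmersion (T₁ ⊓ T₂).ι)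
    haveI : IsOpenImmersion (Over.homMk T₁.ι rfl : Over.mk (T₁.ι ≫ X.hom) ⟶ X).left :=
      inferInstanceAs (IsOpenImmersion T₁.ι)
    let qW : WO ⟶ Over.mk (T₁.ι ≫ X.hom) := Over.homMk (X.left.homOfLE inf_le_left) (by
      show X.left.homOfLE inf_le_left ≫ T₁.ι ≫ X.hom = _
      rw [← Category.assoc, Scheme.homOfLE_ι]
      rfl)
    have hqW : qW ≫ (Over.homMk T₁.ι rfl : Over.mk (T₁.ι ≫ X.hom) ⟶ X) = i :=
      Over.OverMorphism.ext (X.left.homOfLE_ι (inf_le_left : T₁ ⊓ T₂ ≤ T₁))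
    exact (isFinite_psi_box_iff a _ hb qW i hqW (O := O') (by
      show _ = _ ⁻¹' Set.range T₁.ι.base ∩ _ ⁻¹' Set.range (T₁ ⊓ T₂).ι.base
      rw [Scheme.Opens.range_ι, Scheme.Opens.range_ι]
      rfl)).mp (hfin qW)

/-- The properly stable locus is open and the action on it is proper. -/
theorem exists_psLocus_open (hG : Red.IsReductive G) :
    ∃ U : X.left.Opens, (U : Set X.left) = B.psLocus ∧
      ∀ (aP : AlgGrp.Action G (Over.mk (U.ι ≫ X.hom))) (jU : Over.mk (U.ι ≫ X.hom) ⟶ X),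
        jU.left = U.ι → aP.act ≫ jU = (G ◁ jU) ≫ a.act →
          IsFinite (GIT.psi aP (𝟙 (Over.mk (U.ι ≫ X.hom)))).left := by
  choose N g U b hb hN hg hU hUa hxU hsub hfin using fun x : {x : X.left // B.IsProperlyStablePt x} =>
    exists_chart B hG x.2
  have hopen : IsOpen B.psLocus := isOpen_iff_forall_mem_open.mpr fun x hx =>
    ⟨U ⟨x, hx⟩, hsub _, (U ⟨x, hx⟩).isOpen, hxU _⟩
  refine ⟨⟨B.psLocus, hopen⟩, rfl, fun aP jU hjU hc => ?_⟩
  let P : X.left.Opens := ⟨B.psLocus, hopen⟩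
  haveI : IsOpenImmersion jU.left := by rw [hjU]; infer_instance
  have hr : Set.range jU.left.base = (P : Set X.left) := by
    rw [hjU]
    exact P.range_ι
  refine (isFinite_psi_box_iff a jU hc (𝟙 _) jU (Category.id_comp _)
    (O := (fst X X).left ⁻¹ᵁ P ⊓ (snd X X).left ⁻¹ᵁ P) (by rw [hr]; rfl)).mpr ?_
  refine isFinite_restrict_of_le_iSup _
    (fun l : {x : X.left // B.IsProperlyStablePt x} × {x : X.left // B.IsProperlyStablePt x} =>
      (fst X X).left ⁻¹ᵁ U l.1 ⊓ (snd X X).left ⁻¹ᵁ U l.2) _ ?_ ?_ fun l => ?_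
  · exact fun z hz => Opens.mem_iSup.mpr ⟨(⟨_, hz.1⟩, ⟨_, hz.2⟩), hxU ⟨_, hz.1⟩, hxU ⟨_, hz.2⟩⟩
  · exact fun l z hz => ⟨hsub l.1 hz.1, hsub l.2 hz.2⟩
  · exact isFinite_psi_boxes B hG (hN l.1) (hN l.2) (hg l.1) (hg l.2) (hU l.1) (hU l.2) (hUa l.1) (hb l.1)
      fun q => hfin l.1 q

end Groth.Agent.AffAct66
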