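import Groth.Agent.AffAct66.Cut
import Groth.Agent.AffAct66.Extend
import Groth.Agent.AffAct66.Finite
import Groth.Agent.AffAct66.Square
import Groth.Agent.HMAmple.Transport

/-!
Around a properly stable point an invariant section cuts out an affine open of properly stable points over which the
action is proper.
-/

set_option autoImplicit false
set_option linter.unusedSectionVars false
set_option linter.style.haveILetI false
set_option backward.isDefEq.respectTransparency false
set_option backward.isDefEq.respectTransparency.types false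

universe u

open CategoryTheory CategoryTheory.Limits MonoidalCategory CartesianMonoidalCategory MonObj GrpObj AlgebraicGeometry
open Opposite TopologicalSpace
open Groth.Agent.GrpSchLib.Kunneth (Fn ev pullFn)
open Groth.Agent.GrpSchLib.AffineHopf (sp spMap)

namespace Groth.Agent.AffAct66

theorem bijective_appLE_of_isOpenImmersion {A B : Scheme.{u}} (i : A ⟶ B) [IsOpenImmersion i] (P : B.Opens)
    (hP : P ≤ i.opensRange) (h : ⊤ ≤ i ⁻¹ᵁ P) : Function.Bijective (i.appLE P ⊤ h).hom := by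
  haveI : IsIso (i.app P) := Scheme.Hom.isIso_app i P hP
  have e : i ⁻¹ᵁ P = ⊤ := top_le_iff.mp h
  haveI : IsIso (homOfLE h : (⊤ : A.Opens) ⟶ i ⁻¹ᵁ P).op := by
    haveI : IsIso (homOfLE h : (⊤ : A.Opens) ⟶ i ⁻¹ᵁ P) := ⟨⟨homOfLE e.le, rfl, rfl⟩⟩
    infer_instance
  rw [Scheme.Hom.appLE]
  exact ConcreteCategory.bijective_of_isIso _

section

variable {k : Type u} [Field k] {G X : Over (Spec (CommRingCat.of k))} [GrpObj G] (a : AlgGrp.Action G X)

local notation "𝟏" => (𝟙_ (Over (Spec (CommRingCat.of k))))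

/-- Orbits in an invariant open inside a locus with closed orbits are closed. -/
theorem closed_orbit_restrict [IsAlgClosed k] {Z : X.left.Opens} (hZ : GLinSh.ClosedOrbitsOn a Z)
    {W : Over (Spec (CommRingCat.of k))} (j : W ⟶ X) [IsOpenImmersion j.left]
    (hle : Set.range j.left.base ⊆ (Z : Set X.left)) {b : AlgGrp.Action G W}
    (hb : b.act ≫ j = (G ◁ j) ≫ a.act) (z : 𝟏 ⟶ W) : IsClosed (Set.range (orbit b z).left.base) := by
  haveI : Mono j.left := inferInstance
  have ho : orbit b z ≫ j = orbit a (z ≫ j) := by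
    rw [orbit, orbit, restrict_lift a j hb, Category.assoc]
  have hcl := hZ k 𝟏 (Iso.refl _) (z ≫ j) (by
    rintro _ ⟨p, rfl⟩
    exact hle ⟨z.left.base p, rfl⟩)
  let L : X ⟶ X ⊗ 𝟏 := lift (𝟙 X) (toUnit X)
  have hL : L ≫ fst X 𝟏 = 𝟙 X := lift_fst _ _
  have hψ : GIT.psi a (z ≫ j) = (fst G 𝟏 ≫ orbit a (z ≫ j)) ≫ L := by
    apply CartesianMonoidalCategory.hom_ext
    · rw [Category.assoc, hL, Category.comp_id, GIT.psi, lift_fst, orbit, ← Category.assoc, comp_lift, Category.comp_id,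
        ← Category.assoc]
      congr 1
      ext1
      · simp
      · simp only [lift_snd, whiskerLeft_snd]
        congr 1
        exact toUnit_unique _ _
    · exact toUnit_unique _ _
  have hθ : ∀ w : W.left, (j ≫ L).left.base w ∈ (fst X 𝟏).left ⁻¹ᵁ Z := fun w => by
    show ((j ≫ L) ≫ fst X 𝟏).left.base w ∈ Z
    rw [Category.assoc, hL, Category.comp_id]
    exact hle ⟨w, rfl⟩
  let θ : W.left → ((fst X 𝟏).left ⁻¹ᵁ Z : (X ⊗ 𝟏).left.Opens) := fun w => ⟨(j ≫ L).left.base w, hθ w⟩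
  have hθc : Continuous θ := (j ≫ L).left.continuous.subtype_mk _
  convert hcl.preimage hθc using 1
  refine Set.ext fun w => ⟨?_, ?_⟩
  · rintro ⟨g, rfl⟩
    refine ⟨(lift (𝟙 G) (toUnit G)).left.base g, ?_⟩
    show (lift (𝟙 G) (toUnit G) ≫ GIT.psi a (z ≫ j)).left.base g = (orbit b z ≫ j ≫ L).left.base g
    rw [hψ, ← Category.assoc, ← Category.assoc, lift_fst, Category.id_comp, ← ho, Category.assoc]
  · rintro ⟨p, hp⟩
    have hp' : (GIT.psi a (z ≫ j)).left.base p = (j ≫ L).left.base w := hp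
    have h1 : ((fst G 𝟏 ≫ orbit b z) ≫ j).left.base p = j.left.base w := by
      rw [Category.assoc, ho, ← Category.comp_id (fst G 𝟏 ≫ _), ← hL, ← Category.assoc, ← hψ, Over.comp_left,
        Scheme.Hom.comp_apply, hp', ← Scheme.Hom.comp_apply, ← Over.comp_left, Category.assoc, hL, Category.comp_id]
    exact ⟨(fst G 𝟏).left.base p, j.left.isOpenEmbedding.injective h1⟩

/-- Finiteness of stabilisers does not see an invariant open. -/
theorem isFinite_stabTo_restrict [IsAffineHom G.hom] [LocallyOfFiniteType G.hom] {W : Over (Spec (CommRingCat.of k))}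
    (j : W ⟶ X) [IsOpenImmersion j.left] {b : AlgGrp.Action G W} (hb : b.act ≫ j = (G ◁ j) ≫ a.act) {Ω : Type u}
    [Field Ω] [IsAlgClosed Ω] {T : Over (Spec (CommRingCat.of k))} (i : T.left ≅ Spec (CommRingCat.of Ω)) (q : T ⟶ W)
    (h : IsFinite (GLinSh.stabTo a (q ≫ j))) : IsFinite (GLinSh.stabTo b q) := by
  haveI := (GITQuot.Successive.isFinite_stabTo_iff a i (q ≫ j)).mp h
  refine (GITQuot.Successive.isFinite_stabTo_iff b i q).mpr (Finite.of_injective
    (fun g => (⟨g.1, by rw [← restrict_lift a j hb, g.2]⟩ : {g : T ⟶ G // lift g (q ≫ j) ≫ a.act = q ≫ j})) ?_)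
  exact fun g g' hgg => Subtype.ext (congrArg Subtype.val hgg :)

end

variable {k : Type u} [Field k] [IsAlgClosed k] [CharZero k] {G X : Over (Spec (CommRingCat.of k))} [GrpObj G]
  {a : AlgGrp.Action G X} (B : GLinSh.LinBun G a) [LocallyOfFiniteType X.hom] [QuasiCompact X.hom]

/-- A properly stable point has an affine invariant neighbourhood of properly stable points, cut out by an invariant
section, with finite restricted orbit maps. -/
theorem exists_chart (hG : Red.IsReductive G) {x : X.left} (hx : B.IsProperlyStablePt x) :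
    ∃ (N : ℕ) (g : Fn B.V) (U : X.left.Opens) (b : AlgGrp.Action G (Over.mk (U.ι ≫ X.hom))),
      b.act ≫ (Over.homMk U.ι rfl : Over.mk (U.ι ≫ X.hom) ⟶ X) =
        (G ◁ (Over.homMk U.ι rfl : Over.mk (U.ι ≫ X.hom) ⟶ X)) ≫ a.act ∧
      1 ≤ N ∧ B.IsInvSection N g ∧ (U : Set X.left) = GLinSh.nonvanishing B.π g ∧ IsAffineOpen U ∧ x ∈ U ∧
      (U : Set X.left) ⊆ B.psLocus ∧
      ∀ {T : Over (Spec (CommRingCat.of k))} [IsAffine T.left] (q : T ⟶ Over.mk (U.ι ≫ X.hom)),
        IsFinite (GIT.psi b q).left := by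
  haveI := hG.1
  haveI := hG.2.1
  haveI : IsAffine G.left := isAffine_of_isAffineHom G.hom
  haveI : IsReduced G.left := GrpSchLib.isReduced_of_smooth_field G.hom
  obtain ⟨A, _, _, hft, hred, hlr, ⟨e⟩⟩ := HMAmple.exists_model hG
  haveI := hft
  haveI := hred
  obtain ⟨⟨n, f, hn, hf, hxf, Z, hZ, hZa, hcl⟩, hstab⟩ := hx
  have hinvZ := preimage_nonvanishing B hf hZ
  obtain ⟨bZ, hbZ⟩ := exists_restrict a Z hinvZ
  let ZO : Over (Spec (CommRingCat.of k)) := Over.mk (Z.ι ≫ X.hom)
  let jZ : ZO ⟶ X := Over.homMk Z.ι rfl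
  haveI : IsAffine ZO.left := hZa
  haveI : IsOpenImmersion jZ.left := inferInstanceAs (IsOpenImmersion Z.ι)
  haveI : LocallyOfFiniteType ZO.hom := inferInstanceAs (LocallyOfFiniteType (Z.ι ≫ X.hom))
  have hrZ : Set.range jZ.left.base = (Z : Set X.left) := Z.range_ι
  have hclZ := closed_orbit_restrict a hcl jZ hrZ.subset hbZ
  let Ω := AlgebraicClosure (X.left.residueField x)
  let p : Spec (CommRingCat.of Ω) ⟶ X.left :=
    Spec.map (CommRingCat.ofHom (algebraMap (X.left.residueField x) Ω)) ≫ X.left.fromSpecResidueField x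
  let T : Over (Spec (CommRingCat.of k)) := Over.mk (p ≫ X.hom)
  let fT : T ⟶ X := Over.homMk p rfl
  have hp : Set.range fT.left.base = {x} := by
    refine Set.Subset.antisymm ?_ ?_
    · rintro _ ⟨s, rfl⟩
      exact (Scheme.range_fromSpecResidueField x).subset ⟨_, rfl⟩
    · intro z hz
      let s₀ : T.left := IsLocalRing.closedPoint Ω
      refine ⟨s₀, ?_⟩
      rw [Set.mem_singleton_iff.mp hz]
      exact Set.mem_singleton_iff.mp ((Scheme.range_fromSpecResidueField x).subset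
        ⟨(Spec.map (CommRingCat.ofHom (algebraMap (X.left.residueField x) Ω))).base s₀, rfl⟩)
  have hxZ : x ∈ Z := by
    show x ∈ (Z : Set X.left)
    rw [hZ]
    exact hxf
  have hrange : Set.range fT.left.base ⊆ Set.range Z.ι.base := by
    rw [hp, Scheme.Opens.range_ι, Set.singleton_subset_iff]
    exact hxZ
  let q : T ⟶ ZO := Over.homMk (IsOpenImmersion.lift Z.ι fT.left hrange) (by
    show IsOpenImmersion.lift Z.ι fT.left hrange ≫ Z.ι ≫ X.hom = T.hom
    rw [IsOpenImmersion.lift_fac_assoc]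
    rfl)
  have hq : q ≫ jZ = fT := Over.OverMorphism.ext (IsOpenImmersion.lift_fac _ _ _)
  let o : T.left := IsLocalRing.closedPoint Ω
  obtain ⟨h, hh, hmem, hfin⟩ := exists_cut bZ e hlr hclZ (Iso.refl _) q
    (isFinite_stabTo_restrict a jZ hbZ (Iso.refl _) q (hq ▸ hstab Ω T (Iso.refl _) fT hp)) o
  have htop : ⊤ ≤ jZ.left ⁻¹ᵁ Z := fun z _ => z.2
  have hjr : Z ≤ jZ.left.opensRange := fun z hz => by
    show z ∈ Set.range jZ.left.base
    rw [hrZ]
    exact hz
  obtain ⟨h', hh'⟩ := (bijective_appLE_of_isOpenImmersion jZ.left Z hjr htop).2 h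
  let P := (snd G X).left ⁻¹ᵁ Z
  haveI := isOpenImmersion_whiskerLeft jZ G
  have hPr : P ≤ (G ◁ jZ).left.opensRange := fun z hz => by
    show z ∈ Set.range (G ◁ jZ).left.base
    rw [range_whiskerLeft, hrZ]
    exact hz
  have hPtop : ⊤ ≤ (G ◁ jZ).left ⁻¹ᵁ P := fun z _ => by
    show ((G ◁ jZ) ≫ snd G X).left.base z ∈ Z
    rw [whiskerLeft_snd]
    exact ((snd G ZO).left.base z).2
  have hle : P ≤ a.act.left ⁻¹ᵁ Z := hinvZ.ge
  have hinv : a.act.left.appLE Z P hle h' = (snd G X).left.app Z h' := by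
    refine (bijective_appLE_of_isOpenImmersion (G ◁ jZ).left P hPr hPtop).1 ?_
    have key : ∀ (m : G ⊗ X ⟶ X) (m' : G ⊗ ZO ⟶ ZO) (hm : P ≤ m.left ⁻¹ᵁ Z),
        (G ◁ jZ) ≫ m = m' ≫ jZ → (G ◁ jZ).left.appLE P ⊤ hPtop (m.left.appLE Z P hm h') = ev m' h := by
      intro m m' hm e
      rw [← CommRingCat.comp_apply, Scheme.Hom.appLE_comp_appLE]
      have e' : (G ◁ jZ).left ≫ m.left = m'.left ≫ jZ.left := congrArg (fun z => z.left) e
      simp only [e']
      rw [← hh']
      show _ = m'.left.appTop (jZ.left.appLE Z ⊤ htop h')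
      rw [← CommRingCat.comp_apply]
      congr 2
      rw [Scheme.Hom.appTop, Scheme.Hom.app_eq_appLE, Scheme.Hom.appLE_comp_appLE]
      rfl
    show (G ◁ jZ).left.appLE P ⊤ hPtop (a.act.left.appLE Z P hle h') =
      (G ◁ jZ).left.appLE P ⊤ hPtop ((snd G X).left.app Z h')
    rw [key a.act bZ.act hle hbZ.symm, show ((snd G X).left.app Z) h' = (snd G X).left.appLE Z P le_rfl h' from
      ConcreteCategory.congr_hom (Scheme.Hom.app_eq_appLE _) h', key (snd G X) (snd G ZO) le_rfl (whiskerLeft_snd _ _)]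
    exact hh
  obtain ⟨N, g, hN, hg, hnv⟩ := exists_invSection B hn hf hZ h' hle hinv
  let U := X.left.basicOpen h'
  have hUZ : U ≤ Z := X.left.basicOpen_le h'
  obtain ⟨b, hb⟩ := exists_restrict a U (preimage_nonvanishing B hg hnv.symm)
  let UO : Over (Spec (CommRingCat.of k)) := Over.mk (U.ι ≫ X.hom)
  let jU : UO ⟶ X := Over.homMk U.ι rfl
  haveI : IsAffine UO.left := hZa.basicOpen h'
  haveI : IsOpenImmersion jU.left := inferInstanceAs (IsOpenImmersion U.ι)
  haveI : LocallyOfFiniteType UO.hom := inferInstanceAs (LocallyOfFiniteType (U.ι ≫ X.hom))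
  have hrU : Set.range jU.left.base = (U : Set X.left) := U.range_ι
  have hbo : X.left.basicOpen h' = U := rfl
  have hmemU : ∀ z : ZO.left, z ∈ ZO.left.basicOpen h ↔ jZ.left.base z ∈ U := fun z => by
    rw [← hh', Scheme.Hom.appLE, CommRingCat.comp_apply, Scheme.basicOpen_res, ← Scheme.preimage_basicOpen]
    exact ⟨fun hz => hz.2, fun hz => ⟨trivial, hz⟩⟩
  have hclU := closed_orbit_restrict a hcl jU (hrU.subset.trans hUZ) hb
  have hfinU : ∀ y : 𝟙_ (Over (Spec (CommRingCat.of k))) ⟶ UO,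
      {g₁ : 𝟙_ (Over (Spec (CommRingCat.of k))) ⟶ G | lift g₁ y ≫ b.act = y}.Finite := by
    intro y
    have hsub : Set.range (y ≫ jU).left.base ⊆ Set.range Z.ι.base := by
      rw [Scheme.Opens.range_ι]
      rintro _ ⟨s, rfl⟩
      exact hUZ (hrU.subset ⟨y.left.base s, rfl⟩)
    let y' : 𝟙_ (Over (Spec (CommRingCat.of k))) ⟶ ZO := Over.homMk (IsOpenImmersion.lift Z.ι (y ≫ jU).left hsub) (by
      show IsOpenImmersion.lift Z.ι _ hsub ≫ Z.ι ≫ X.hom = _
      rw [IsOpenImmersion.lift_fac_assoc]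
      exact Over.w (y ≫ jU))
    have hy' : y' ≫ jZ = y ≫ jU := Over.OverMorphism.ext (IsOpenImmersion.lift_fac _ _ _)
    refine (hfin y' ?_).subset fun g₁ hg₁ => ?_
    · rw [hmemU, ← Scheme.Hom.comp_apply, ← Over.comp_left, hy']
      exact hrU.subset ⟨y.left.base _, rfl⟩
    · haveI : Mono jZ := by
        haveI : Mono jZ.left := inferInstanceAs (Mono Z.ι)
        exact Over.mono_of_mono_left jZ
      show lift g₁ y' ≫ bZ.act = y'
      rw [← cancel_mono jZ, restrict_lift a jZ hbZ, hy', ← restrict_lift a jU hb,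
        show lift g₁ y ≫ b.act = y from hg₁]
  have hpsi : ∀ {T : Over (Spec (CommRingCat.of k))} [IsAffine T.left] (q : T ⟶ UO), IsFinite (GIT.psi b q).left :=
    fun q => isFinite_psi b e hlr hclU hfinU q
  have hres : ∀ {Ω : Type u} [Field Ω] {T : Over (Spec (CommRingCat.of k))} (i : T.left ≅ Spec (CommRingCat.of Ω))
      (f : T ⟶ X), Set.range f.left.base ⊆ (U : Set X.left) →
        IsFinite ((GIT.psi a f).left ∣_ ((fst X T).left ⁻¹ᵁ U)) := by
    intro Ω _ T i f hf
    haveI : IsAffine T.left := IsAffine.of_isIso i.hom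
    have hf' : Set.range f.left.base ⊆ Set.range U.ι.base := by rw [Scheme.Opens.range_ι]; exact hf
    let qU : T ⟶ UO := Over.homMk (IsOpenImmersion.lift U.ι f.left hf') (by
      show IsOpenImmersion.lift U.ι f.left hf' ≫ U.ι ≫ X.hom = T.hom
      rw [IsOpenImmersion.lift_fac_assoc]
      exact Over.w f)
    have hqU : qU ≫ jU = f := Over.OverMorphism.ext (IsOpenImmersion.lift_fac _ _ _)
    have := (isFinite_psi_restrict_iff a jU hb qU (O := (fst X T).left ⁻¹ᵁ U) (by rw [hrU]; rfl)).mp (hpsi qU)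
    rwa [hqU] at this
  refine ⟨N, g, U, b, hb, hN, hg, hnv.symm, hZa.basicOpen h', ?_, fun z hz => ?_, fun q => hpsi q⟩
  · have := (hmemU (q.left.base o)).mp hmem
    rwa [← Scheme.Hom.comp_apply, ← Over.comp_left, hq, show fT.left.base o = x from hp.subset ⟨o, rfl⟩] at this
  · refine ⟨⟨N, g, hN, hg, hnv.symm ▸ hz, U, hnv.symm, hZa.basicOpen h', fun Ω' _ _ T' i f hf => ?_⟩,
      fun Ω' _ _ T' i f hf => ?_⟩
    · exact HMAmple.closed_of_isFinite (hres i f hf)
    · have hf' : Set.range f.left.base ⊆ (U : Set X.left) := hf ▸ Set.singleton_subset_iff.mpr hz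
      exact HMAmple.isFinite_stabTo_of_isFinite (hres i f hf') hf'

end Groth.Agent.AffAct66
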